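import Cfsg.Agent.Lib.Linear.OOTensor.Unip
import Cfsg.Agent.Lib.Linear.OrthStdBasis

/-!
# Orthogonal spaces of dimension four and minus type

Transitivity on the singular vectors, and the element of the root group attached to two vectors of
the anisotropic plane.
-/

set_option autoImplicit false
set_option linter.unusedSectionVars false
set_option linter.unusedSimpArgs false

namespace Cfsg.Lib.Linear.OOTensor.MinusFour

open Module
open scoped Matrix
open Cfsg.Lib.Linear.Orth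

variable {μ : Type} [Fintype μ] [DecidableEq μ] {F : Type*} [Field F]
  {β : LinearMap.BilinForm F (μ → F)}

/-- No totally singular plane. -/
def NoPlane (β : LinearMap.BilinForm F (μ → F)) : Prop :=
  ∀ a b, qf β a = 0 → qf β b = 0 → β a b = 0 → a ≠ 0 → b ∈ Submodule.span F {a}

/-- A hyperbolic pair and an orthogonal basis of its perpendicular. -/
structure Four (β : LinearMap.BilinForm F (μ → F)) (x f e₀ e₁ : μ → F) : Prop where
  C : Space (qf β) β
  hyp : Hyp (qf β) β ⊤ x f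
  mem₀ : e₀ ∈ perp2 β ⊤ x f
  mem₁ : e₁ ∈ perp2 β ⊤ x f
  orth : β e₀ e₁ = 0
  ns₀ : qf β e₀ ≠ 0
  ns₁ : qf β e₁ ≠ 0
  split : ∀ r ∈ perp2 β ⊤ x f, r = (β e₀ r / β e₀ e₀) • e₀ + (β e₁ r / β e₁ e₁) • e₁
  aniso : ∀ r ∈ perp2 β ⊤ x f, qf β r = 0 → r = 0

variable (C : Space (qf β) β)
include C

theorem exists_four [Finite F] (h2 : (2 : F) ≠ 0) (h4 : Fintype.card μ = 4) (hNP : NoPlane β)
    {x f : μ → F} (H : Hyp (qf β) β ⊤ x f) : ∃ e₀ e₁, Four β x f e₀ e₁ := by
  have hx0 : x ≠ 0 := fun e => by simpa [e] using H.pair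
  have haniso : ∀ r ∈ perp2 β ⊤ x f, qf β r = 0 → r = 0 := fun r hr hq => by
    obtain ⟨-, r1, r2⟩ := mem_perp2.1 hr
    obtain ⟨c, rfl⟩ := Submodule.mem_span_singleton.1 (hNP x r H.singE hq r1 hx0)
    rw [map_smul, H.pair' C, smul_eq_mul, mul_one] at r2
    rw [r2, zero_smul]
  have hd := H.finrank_eq C
  rw [finrank_top, finrank_fintype_fun_eq_card, h4] at hd
  obtain ⟨e₀, h₀, hne₀⟩ := Submodule.exists_mem_ne_zero_of_ne_bot
    (p := perp2 β ⊤ x f) fun h => by rw [h, finrank_bot] at hd; omega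
  have q₀ : qf β e₀ ≠ 0 := fun h => hne₀ (haniso _ h₀ h)
  obtain ⟨e₁, ⟨h₁, ho⟩, hne₁⟩ := Submodule.exists_mem_ne_zero_of_ne_bot
    (p := perp2 β ⊤ x f ⊓ LinearMap.ker (β e₀)) fun h => by
      have h1 := Submodule.finrank_sup_add_finrank_inf_eq (perp2 β ⊤ x f) (LinearMap.ker (β e₀))
      have h3 := Submodule.finrank_le (perp2 β ⊤ x f ⊔ LinearMap.ker (β e₀))
      have h5 := LinearMap.finrank_range_add_finrank_ker (β e₀)
      have h6 := (Submodule.finrank_le (LinearMap.range (β e₀))).trans (Module.finrank_self F).le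
      rw [h, finrank_bot] at h1
      rw [finrank_fintype_fun_eq_card, h4] at h3 h5
      omega
  have q₁ : qf β e₁ ≠ 0 := fun h => hne₁ (haniso _ h₁ h)
  have ho' : β e₀ e₁ = 0 := ho
  have b₀ : β e₀ e₀ ≠ 0 := by rw [C.self]; exact mul_ne_zero h2 q₀
  have b₁ : β e₁ e₁ ≠ 0 := by rw [C.self]; exact mul_ne_zero h2 q₁
  refine ⟨e₀, e₁, ⟨C, H, h₀, h₁, ho', q₀, q₁, fun r hr => ?_, haniso⟩⟩
  have hli : LinearIndependent F (![⟨e₀, h₀⟩, ⟨e₁, h₁⟩] : Fin 2 → perp2 β ⊤ x f) := by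
    rw [linearIndependent_fin2]
    refine ⟨fun e => hne₁ (congrArg Subtype.val e), fun a ha => q₀ ?_⟩
    have h := congrArg Subtype.val ha
    simp only [Matrix.cons_val_zero, Matrix.cons_val_one, SetLike.val_smul] at h
    have h' := congrArg (β e₀) h
    rw [map_smul, ho', smul_zero] at h'
    exact absurd h'.symm b₀
  have hsp := hli.span_eq_top_of_card_eq_finrank (by rw [Fintype.card_fin]; omega)
  have hr' : (⟨r, hr⟩ : perp2 β ⊤ x f) ∈
      Submodule.span F (Set.range (![⟨e₀, h₀⟩, ⟨e₁, h₁⟩] : Fin 2 → perp2 β ⊤ x f)) := by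
    rw [hsp]; trivial
  obtain ⟨c, hc⟩ := (Submodule.mem_span_range_iff_exists_fun F).1 hr'
  have hc' : r = c 0 • e₀ + c 1 • e₁ := by
    have := congrArg Subtype.val hc
    simp [Fin.sum_univ_two] at this
    exact this.symm
  have ho'' : β e₁ e₀ = 0 := by rw [C.symm]; exact ho'
  have c0 : β e₀ r / β e₀ e₀ = c 0 := by
    rw [hc', map_add, map_smul, map_smul, ho', smul_zero, add_zero, smul_eq_mul,
      mul_div_cancel_right₀ _ b₀]
  have c1 : β e₁ r / β e₁ e₁ = c 1 := by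
    rw [hc', map_add, map_smul, map_smul, ho'', smul_zero, zero_add, smul_eq_mul,
      mul_div_cancel_right₀ _ b₁]
  rw [c0, c1]
  exact hc'

omit C

variable {x f e₀ e₁ : μ → F} (D : Four β x f e₀ e₁)
include D

/-- The three step element exchanging the two singular lines. -/
theorem exists_swap {d : μ → F} (hd : d ∈ perp2 β ⊤ x f) (hd0 : qf β d ≠ 0) :
    ∃ n ∈ Root (qf β) β ⊤, n.val *ᵥ x = -(qf β d) • f ∧ n.val *ᵥ f = -(qf β d)⁻¹ • x ∧
      ∀ w ∈ perp2 β ⊤ x f, n.val *ᵥ w = w - ((qf β d)⁻¹ * β d w) • d := by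
  have C := D.C
  obtain ⟨-, d1, d2⟩ := mem_perp2.1 hd
  obtain ⟨a, ha⟩ : ∃ a, a = (qf β d)⁻¹ • d := ⟨_, rfl⟩
  have a1 : β x a = 0 := by rw [ha, map_smul, d1, smul_zero]
  have a2 : β f a = 0 := by rw [ha, map_smul, d2, smul_zero]
  have hqa : qf β a = (qf β d)⁻¹ := by rw [ha, C.smul]; field_simp
  have hx := D.hyp.singE
  have hf := D.hyp.singF
  have f1 : ∀ w, (sGL (qf β) β f d).val *ᵥ w = w + β f w • d - (β d w + qf β d * β f w) • f :=
    fun w => sGL_act C hf d2 w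
  have x1 : ∀ w, (sGL (qf β) β x a).val *ᵥ w = w + β x w • a - (β a w + qf β a * β x w) • x :=
    fun w => sGL_act C hx a1 w
  have hxx := C.self_zero hx
  have hff := C.self_zero hf
  have hxf := D.hyp.pair
  have hfx := D.hyp.pair' C
  have dx : β d x = 0 := by rw [C.symm]; exact d1
  have df : β d f = 0 := by rw [C.symm]; exact d2
  have ax : β a x = 0 := by rw [C.symm]; exact a1
  have af : β a f = 0 := by rw [C.symm]; exact a2
  have ad : β a d = 2 := by
    rw [ha, map_smul, LinearMap.smul_apply, C.self, smul_eq_mul]; field_simp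
  have sff : (sGL (qf β) β f d).val *ᵥ f = f := by
    rw [f1, hff, df]; simp
  have sfx : (sGL (qf β) β f d).val *ᵥ x = x + d - qf β d • f := by
    rw [f1, hfx, dx]; simp
  have sxx : (sGL (qf β) β x a).val *ᵥ x = x := by
    rw [x1, hxx, ax]; simp
  have sxf : (sGL (qf β) β x a).val *ᵥ f = f + a - (qf β d)⁻¹ • x := by
    rw [x1, hxf, af, hqa]; simp
  have sxd : (sGL (qf β) β x a).val *ᵥ d = d - (2 : F) • x := by
    rw [x1, d1, ad]; simp
  refine ⟨sGL (qf β) β f d * sGL (qf β) β x a * sGL (qf β) β f d,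
    mul_mem (mul_mem (sGL_mem_root trivial trivial hf d2) (sGL_mem_root trivial trivial hx a1))
      (sGL_mem_root trivial trivial hf d2), ?_, ?_, fun w hw => ?_⟩
  · have e : x + (d - (2 : F) • x) - qf β d • (f + a - (qf β d)⁻¹ • x) = -(qf β d) • f := by
      rw [ha]
      match_scalars <;> field_simp <;> ring
    rw [mul_act, mul_act, sfx, Matrix.mulVec_sub, Matrix.mulVec_add, Matrix.mulVec_smul, sxx, sxd,
      sxf, e, Matrix.mulVec_smul, sff]
  · have sfa : (sGL (qf β) β f d).val *ᵥ a = a - (2 : F) • f := by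
      rw [f1, a2, C.symm d a, ad]; simp
    rw [mul_act, mul_act, sff, sxf, Matrix.mulVec_sub, Matrix.mulVec_add, Matrix.mulVec_smul, sff,
      sfx, sfa, ha]
    match_scalars <;> field_simp <;> ring
  · obtain ⟨-, w1, w2⟩ := mem_perp2.1 hw
    have sfw : (sGL (qf β) β f d).val *ᵥ w = w - β d w • f := by
      rw [f1, w2]; simp
    have sxw : (sGL (qf β) β x a).val *ᵥ w = w - ((qf β d)⁻¹ * β d w) • x := by
      rw [x1, w1, ha, map_smul, LinearMap.smul_apply]; simp
    have sfa : (sGL (qf β) β f d).val *ᵥ a = a - (2 : F) • f := by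
      rw [f1, a2, C.symm d a, ad]; simp
    rw [mul_act, mul_act, sfw, Matrix.mulVec_sub, Matrix.mulVec_smul, sxw, sxf]
    simp only [Matrix.mulVec_sub, Matrix.mulVec_add, Matrix.mulVec_smul, sfw, sfx, sfa, sff]
    rw [ha]
    match_scalars <;> field_simp <;> ring

/-- The product of two exchanges. -/
theorem exists_rot {d : μ → F} (hd : d ∈ perp2 β ⊤ x f) (hd0 : qf β d ≠ 0) :
    ∃ m ∈ Root (qf β) β ⊤, m.val *ᵥ x = (qf β e₀ / qf β d) • x ∧
      ∀ w ∈ perp2 β ⊤ x f, m.val *ᵥ w =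
        (w - ((qf β e₀)⁻¹ * β e₀ w) • e₀) -
          ((qf β d)⁻¹ * β d (w - ((qf β e₀)⁻¹ * β e₀ w) • e₀)) • d := by
  obtain ⟨n, hn, nx, nf, nw⟩ := exists_swap D hd hd0
  obtain ⟨n', hn', nx', -, nw'⟩ := exists_swap D D.mem₀ D.ns₀
  refine ⟨n * n', mul_mem hn hn', ?_, fun w hw => ?_⟩
  · rw [mul_act, nx', Matrix.mulVec_smul, nf, smul_smul]
    congr 1
    ring
  · rw [mul_act, nw' w hw, nw _ (sub_mem hw (Submodule.smul_mem _ _ D.mem₀))]

theorem exists_norm [Finite F] {c : F} (hc : c ≠ 0) : ∃ d ∈ perp2 β ⊤ x f, qf β d = c := by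
  classical
  have : Fintype F := Fintype.ofFinite F
  obtain ⟨s, t, h⟩ : ∃ s t : F, qf β e₀ * s ^ 2 + qf β e₁ * t ^ 2 - c = 0 := by
    obtain ⟨a, b, hab⟩ := FiniteField.exists_root_sum_quadratic
      (f := Polynomial.C (qf β e₀) * Polynomial.X ^ 2)
      (g := Polynomial.C (qf β e₁) * Polynomial.X ^ 2 - Polynomial.C c)
      (by rw [Polynomial.degree_C_mul_X_pow 2 D.ns₀]; rfl)
      (by
        rw [Polynomial.degree_sub_C (by rw [Polynomial.degree_C_mul_X_pow 2 D.ns₁]; decide),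
          Polynomial.degree_C_mul_X_pow 2 D.ns₁]; rfl)
      (FiniteField.odd_card_of_char_ne_two fun hc2 => D.ns₀ (by
        haveI := ringChar.of_eq hc2
        simp [qf, CharTwo.two_eq_zero]))
    exact ⟨a, b, by simp at hab; linear_combination hab⟩
  refine ⟨s • e₀ + t • e₁, add_mem (Submodule.smul_mem _ _ D.mem₀) (Submodule.smul_mem _ _ D.mem₁), ?_⟩
  rw [D.C.smul_add, D.orth]
  linear_combination h

/-- The root group is transitive on the non-zero singular vectors. -/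
theorem trans_base [Finite F] {y : μ → F} (hy : qf β y = 0) (hy0 : y ≠ 0) :
    ∃ h ∈ Root (qf β) β ⊤, h.val *ᵥ x = y := by
  have C := D.C
  have hx := D.hyp.singE
  have hf := D.hyp.singF
  have scal : ∀ c : F, c ≠ 0 → ∃ h ∈ Root (qf β) β ⊤, h.val *ᵥ x = c • x := fun c hc => by
    obtain ⟨d, hd, hdq⟩ := exists_norm D (div_ne_zero D.ns₀ hc)
    obtain ⟨m, hm, hmx, -⟩ := exists_rot D hd (by rw [hdq]; exact div_ne_zero D.ns₀ hc)
    exact ⟨m, hm, by rw [hmx, hdq, div_div_cancel₀ D.ns₀]⟩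
  obtain ⟨r, hr, ey⟩ : ∃ r ∈ perp2 β ⊤ x f, y = β f y • x + β x y • f + r :=
    ⟨_, D.hyp.proj C (x := y) trivial, by abel⟩
  obtain ⟨-, r1, r2⟩ := mem_perp2.1 hr
  by_cases hfy : β f y = 0
  · have h0 : qf β r = 0 := by
      rw [ey, hfy, zero_smul, zero_add, C.add, C.smul, hf, map_smul, LinearMap.smul_apply, r2,
        mul_zero, smul_zero, zero_add, add_zero] at hy
      exact hy
    rw [hfy, zero_smul, zero_add, D.aniso r hr h0, add_zero] at ey
    have hxy : β x y ≠ 0 := fun e => hy0 (by rw [ey, e, zero_smul])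
    obtain ⟨n, hn, nx, -, -⟩ := exists_swap D D.mem₀ D.ns₀
    obtain ⟨h, hh, hhx⟩ := scal (-(β x y) / qf β e₀)
      (div_ne_zero (neg_ne_zero.2 hxy) D.ns₀)
    refine ⟨n * h, mul_mem hn hh, ?_⟩
    conv_rhs => rw [ey]
    rw [mul_act, hhx, Matrix.mulVec_smul, nx, smul_smul]
    congr 1
    field_simp [D.ns₀]
  · obtain ⟨h, hh, hhx⟩ := scal (β f y) hfy
    set a := (β f y)⁻¹ • r with ha
    have a2 : β f a = 0 := by rw [ha, map_smul, r2, smul_zero]
    refine ⟨sGL (qf β) β f a * h, mul_mem (sGL_mem_root trivial trivial hf a2) hh, ?_⟩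
    have hq : β f y * β x y + qf β r = 0 := by
      have e := hy
      rw [ey, C.add, C.smul_add, hx, hf, D.hyp.pair, map_add, map_smul, map_smul,
        LinearMap.add_apply, LinearMap.smul_apply, LinearMap.smul_apply, r1, r2] at e
      simp at e
      linear_combination e
    have hxy : β x y = -(qf β r / β f y) := by
      field_simp
      linear_combination hq
    conv_rhs => rw [ey, hxy]
    rw [mul_act, hhx, sGL_act C hf a2, map_smul, map_smul, D.hyp.pair' C, ha, C.smul, map_smul,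
      LinearMap.smul_apply, C.symm r x, r1]
    simp only [smul_eq_mul, mul_one, mul_zero, zero_add]
    match_scalars <;> field_simp

omit D
include C

/-- Transitivity on singular vectors. -/
theorem trans [Finite F] (h2 : (2 : F) ≠ 0) (h4 : Fintype.card μ = 4) (hNP : NoPlane β) {x y : μ → F}
    (hx : qf β x = 0) (hx0 : x ≠ 0) (hy : qf β y = 0) (hy0 : y ≠ 0) :
    ∃ h ∈ Root (qf β) β ⊤, h.val *ᵥ x = y := by
  obtain ⟨f, H⟩ := exists_hyp C C.ndeg_top (Submodule.mem_top : x ∈ ⊤) hx0 hx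
  obtain ⟨e₀, e₁, D⟩ := exists_four C h2 h4 hNP H
  exact trans_base D hy hy0

end Cfsg.Lib.Linear.OOTensor.MinusFour
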