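import Cfsg.Agent.Lib.Linear.OOTensor.MinusFour.Quad
import Cfsg.Agent.Lib.Linear.OOTensor.Root

/-!
# Conjugates of Siegel elements

An element of the group which conjugates a Siegel element of the second factor into the factorwise
group acts factorwise itself.
-/

set_option autoImplicit false
set_option linter.unusedSectionVars false
set_option linter.unusedSimpArgs false

namespace Cfsg.Lib.Linear.OOTensor.MinusFour

open Module
open scoped Matrix
open Cfsg.Lib.Linear.Orth

variable {ι κ μ : Type} [Fintype ι] [DecidableEq ι] [Fintype κ] [DecidableEq κ] [Fintype μ]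
  [DecidableEq μ] {F : Type*} [Field F] {Q : (ι → F) → F} {B : LinearMap.BilinForm F (ι → F)}
  {α : LinearMap.BilinForm F (κ → F)} {β : LinearMap.BilinForm F (μ → F)}
  {τ : (κ → F) →ₗ[F] (μ → F) →ₗ[F] (ι → F)} {L : Subgroup (GL ι F)} (T : Ten Q B α β τ)
include T

/-- A unipotent isometry of a space of dimension three is trivial or regular. -/
theorem skew_unip (h3 : Fintype.card κ = 3) {N : Module.End F (κ → F)}
    (hiso : ∀ a b, α (a + N a) (b + N b) = α a b) (hN : ∀ a, N (N a) = 0) : N = 0 := by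
  by_contra hne
  obtain ⟨u₁, hu₁⟩ : ∃ u, N u ≠ 0 := by
    by_contra h
    push Not at h
    exact hne (LinearMap.ext h)
  have hker : ∀ a b, N b = 0 → α (N a) b = 0 := fun a b hb => by
    have := hiso a b
    rw [hb, add_zero, map_add, LinearMap.add_apply] at this
    linear_combination this
  have hskew : ∀ a b, α (N a) b = -α a (N b) := fun a b => by
    have h1 := hiso a b
    simp only [map_add, LinearMap.add_apply, hker a (N b) (hN b)] at h1
    linear_combination h1
  have hle : LinearMap.range N ≤ LinearMap.ker N := by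
    rintro _ ⟨a, rfl⟩
    exact hN a
  have hr : finrank F (LinearMap.range N) ≤ 1 := by
    have h1 := LinearMap.finrank_range_add_finrank_ker N
    have h2 := Submodule.finrank_mono hle
    rw [finrank_fintype_fun_eq_card, h3] at h1
    omega
  have hspan : Submodule.span F {N u₁} = LinearMap.range N :=
    Submodule.eq_of_le_of_finrank_le
      ((Submodule.span_singleton_le_iff_mem _ _).2 (LinearMap.mem_range_self N u₁))
      (by rw [finrank_span_singleton hu₁]; exact hr)
  have hz1 : α (N u₁) u₁ = 0 := by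
    have h1 := hskew u₁ u₁
    rw [T.sα u₁ (N u₁)] at h1
    exact (mul_eq_zero.1 (show (2 : F) * α (N u₁) u₁ = 0 by linear_combination h1)).resolve_left T.h2
  refine hu₁ (T.nα _ fun u => ?_)
  obtain ⟨c, hc⟩ := Submodule.mem_span_singleton.1 (hspan.symm.le (LinearMap.mem_range_self N u))
  have h1 := hskew u u₁
  rw [← hc, map_smul, LinearMap.smul_apply, hz1, smul_zero] at h1
  rw [T.sα]
  linear_combination h1

omit T in
/-- A vector moved twice by a nilpotent map generates a space of dimension three. -/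
theorem top_of_cyclic (h3 : Fintype.card κ = 3) {N : Module.End F (κ → F)} (hN : IsNilpotent N)
    {K : Submodule F (κ → F)} (hK : ∀ a ∈ K, N a ∈ K) {c : κ → F} (hc : c ∈ K)
    (hc2 : N (N c) ≠ 0) : K = ⊤ := by
  classical
  obtain ⟨n, hn⟩ := hN
  have hex : ∃ k, (N ^ k) c = 0 := ⟨n, by rw [hn, LinearMap.zero_apply]⟩
  set k := Nat.find hex with hk
  have hkz : (N ^ k) c = 0 := Nat.find_spec hex
  have hge : ∀ j, k ≤ j → (N ^ j) c = 0 := fun j hj => by
    obtain ⟨i, rfl⟩ := Nat.exists_eq_add_of_le hj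
    rw [add_comm, pow_add, Module.End.mul_apply, hkz, map_zero]
  have hne : ∀ j, j < k → (N ^ j) c ≠ 0 := fun j hj => Nat.find_min hex hj
  have hk3 : 3 ≤ k := by
    by_contra h
    exact hc2 (by simpa [sq] using hge 2 (by omega))
  have hli : LinearIndependent F ![c, N c, N (N c)] := by
    rw [Fintype.linearIndependent_iff]
    intro s hs
    rw [Fin.sum_univ_three] at hs
    have e : ∀ j, s 0 • (N ^ j) c + s 1 • (N ^ (j + 1)) c + s 2 • (N ^ (j + 2)) c = 0 := fun j => by
      have h := congrArg (N ^ j) hs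
      simp only [map_add, map_smul, map_zero] at h
      simpa [pow_succ, Module.End.mul_apply, add_assoc] using h
    have s0 : s 0 = 0 := by
      have h := e (k - 1)
      rw [hge (k - 1 + 1) (by omega), hge (k - 1 + 2) (by omega)] at h
      simpa [hne (k - 1) (by omega)] using h
    have s1 : s 1 = 0 := by
      have h := e (k - 2)
      rw [s0, hge (k - 2 + 2) (by omega)] at h
      simpa [hne (k - 2 + 1) (by omega)] using h
    have s2 : s 2 = 0 := by
      have h := e 0
      rw [s0, s1] at h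
      simpa [hne 2 (by omega), sq, Module.End.mul_apply, hc2] using h
    intro i
    fin_cases i <;> assumption
  have hsp := hli.span_eq_top_of_card_eq_finrank (by simp [h3])
  refine eq_top_iff.2 (hsp.ge.trans (Submodule.span_le.2 ?_))
  rintro _ ⟨i, rfl⟩
  fin_cases i
  · exact hc
  · exact hK _ hc
  · exact hK _ (hK _ hc)

/-- A regular first component leaves few vectors fixed. -/
theorem fix_le (h3 : Fintype.card κ = 3) {Y : GL ι F} {A : Module.End F (κ → F)} {c₁ : F}
    (hc₁ : c₁ ≠ 0) {q : GL μ F}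
    (hrow : ∀ c v, T.swap.ctr c (Y.val *ᵥ v) = c₁ • (q.val *ᵥ T.swap.ctr (A c) v))
    (hnil : IsNilpotent (A - 1)) {c : κ → F} (hc : (A - 1) ((A - 1) c) ≠ 0) :
    finrank F (LinearMap.ker (Matrix.mulVecLin Y.val - LinearMap.id)) ≤ Fintype.card μ := by
  set P := LinearMap.ker (Matrix.mulVecLin Y.val - LinearMap.id)
  have hinj : Function.Injective ((T.swap.ctr c).domRestrict P) := by
    refine (injective_iff_map_eq_zero _).2 fun v hv => Subtype.ext ?_
    have hfix : Y.val *ᵥ v.1 = v.1 := sub_eq_zero.1 (LinearMap.mem_ker.1 v.2)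
    let K : Submodule F (κ → F) := LinearMap.ker (T.swap.ctr.flip v.1)
    have hK : ∀ d ∈ K, (A - 1) d ∈ K := fun d hd => by
      have hd' : T.swap.ctr d v.1 = 0 := hd
      have h1 := hrow d v.1
      rw [hfix, hd'] at h1
      have h2 : T.swap.ctr (A d) v.1 = 0 := Orth.act_injective q (by
        show q.val *ᵥ _ = q.val *ᵥ 0
        rw [Matrix.mulVec_zero]
        exact (smul_eq_zero.1 h1.symm).resolve_left hc₁)
      show T.swap.ctr (A d - d) v.1 = 0
      rw [map_sub, LinearMap.sub_apply, h2, hd', sub_zero]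
    have htop := top_of_cyclic h3 hnil hK (show c ∈ K from hv) hc
    exact T.swap.eq_of_ctr fun d => by
      rw [show T.swap.ctr d v.1 = 0 from (htop ▸ trivial : d ∈ K), ZeroMemClass.coe_zero, map_zero]
  have h := LinearMap.finrank_le_finrank_of_injective hinj
  rwa [finrank_fintype_fun_eq_card] at h

variable (hlose : Losing T L) (hL : Over T L)
include hlose hL

/-- An element conjugating a Siegel element into the factorwise group acts factorwise. -/
theorem pure_of_conj4 [Finite F] (h3 : Fintype.card κ = 3)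
    (hq : 4 ≤ Fintype.card κ ∨ ∃ s : F, s ≠ 0 ∧ s * s ≠ 1) (h4 : Fintype.card μ = 4)
    (hNP : NoPlane β) {x f e₀ e₁ : μ → F} (D : Four β x f e₀ e₁) {c₀ c₁ : F}
    (hc : c₀ ≠ 0 ∨ c₁ ≠ 0) {g : GL ι F} (hg : g ∈ L)
    (hY : Pure τ (g * T.liftR (sGL (qf β) β x (c₀ • e₀ + c₁ • e₁)) * g⁻¹)) : Pure τ g := by
  classical
  have C := D.C
  have H := D.hyp
  obtain ⟨-, a1, a2⟩ := mem_perp2.1 D.mem₀
  obtain ⟨-, b1, b2⟩ := mem_perp2.1 D.mem₁
  have hμ : 0 < Fintype.card μ := by omega
  have hκ : 0 < Fintype.card κ := by omega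
  have hκ' : Nonempty κ := Fintype.card_pos_iff.1 hκ
  have hx0 : x ≠ 0 := hyp_ne_zero T H
  have n₀ : β e₀ e₀ ≠ 0 := by rw [C.self]; exact mul_ne_zero T.h2 D.ns₀
  have n₁ : β e₁ e₁ ≠ 0 := by rw [C.self]; exact mul_ne_zero T.h2 D.ns₁
  have ho' : β e₁ e₀ = 0 := by rw [C.symm]; exact D.orth
  set a := c₀ • e₀ + c₁ • e₁ with ha
  have hxa : β x a = 0 := by simp [ha, a1, b1]
  have haW : a ∈ perp2 β ⊤ x f :=
    add_mem (Submodule.smul_mem _ _ D.mem₀) (Submodule.smul_mem _ _ D.mem₁)
  have ha0 : a ≠ 0 := fun e => by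
    have h₀ := congrArg (β e₀) e
    have h₁ := congrArg (β e₁) e
    simp [ha, D.orth, ho', n₀, n₁] at h₀ h₁
    rcases hc with hc | hc <;> contradiction
  have hqa : qf β a ≠ 0 := fun e => ha0 (D.aniso a haW e)
  set σ := sGL (qf β) β x a with hσ
  set S := T.liftR σ with hS
  set Y := g * S * g⁻¹ with hYdef
  have hSL : S ∈ L := hL.right x a H.singE hxa
  have hYL : Y ∈ L := mul_mem (mul_mem hg hSL) (inv_mem hg)
  have hgI := hL.le hg
  obtain ⟨p, q, hpq⟩ := hY
  obtain ⟨ν, hν, hpν, hqν⟩ := Pure.sim T hκ hμ (hL.le hYL) hpq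
  -- the order
  obtain ⟨P, hP⟩ := CharP.exists F
  have hP1 : P.Prime := (CharP.char_is_prime_or_zero F P).resolve_right fun e => by
    subst e
    haveI := CharP.charP_to_charZero F
    exact not_finite F
  have hPf : Fact P.Prime := ⟨hP1⟩
  have hpow : ∀ n : ℕ, σ ^ n = sGL (qf β) β x ((n : F) • a) := fun n => by
    induction n with
    | zero => rw [pow_zero, Nat.cast_zero, zero_smul, SpTensor.sGL_zero_right C H.singE]
    | succ n ih =>
      rw [pow_succ, ih, sGL_mul C H.singE (by rw [map_smul, hxa, smul_zero]) hxa, Nat.cast_succ,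
        add_smul, one_smul]
  have hYP : Y ^ P = 1 := by
    rw [hYdef, conj_pow, hS, ← map_pow, hpow, CharP.cast_eq_zero, zero_smul,
      SpTensor.sGL_zero_right C H.singE, map_one, mul_one, mul_inv_cancel]
  have hYn : ∀ (n : ℕ) u w, (Y ^ n).val *ᵥ τ u w = τ ((p ^ n).val *ᵥ u) ((q ^ n).val *ᵥ w) := by
    intro n
    induction n with
    | zero => simp
    | succ n ih => intro u w; rw [pow_succ', mul_act, ih, hpq, pow_succ', pow_succ', mul_act, mul_act]
  obtain ⟨k, hk⟩ : ∃ k : F, ∀ u, (p ^ P).val *ᵥ u = k • u := by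
    obtain ⟨w₀, hw₀⟩ : ∃ w : μ → F, w ≠ 0 := ⟨x, hx0⟩
    have hqw := Orth.act_ne_zero (g := q ^ P) hw₀
    obtain ⟨z, hz⟩ := T.exists_one hqw
    refine ⟨β w₀ z, fun u => ?_⟩
    have h := congrArg (T.ctr z) (hYn P u w₀)
    rw [hYP, Units.val_one, Matrix.one_mulVec, T.ctr_tau, T.ctr_tau, hz, one_smul] at h
    exact h.symm
  obtain ⟨u₀, hu₀⟩ := T.exists_aniso_left hκ
  have hu₀0 : u₀ ≠ 0 := fun e => hu₀ (by simp [e])
  have hk0 : k ≠ 0 := fun e => Orth.act_ne_zero hu₀0 (by rw [hk, e, zero_smul])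
  haveI : ExpChar F P := ExpChar.prime hP1
  obtain ⟨d, hd⟩ := surjective_frobenius F P k
  rw [frobenius_def] at hd
  have hd0 : d ≠ 0 := fun e => hk0 (by rw [← hd, e, zero_pow hP1.ne_zero])
  -- the normalised inverse of the first component
  set A : Module.End F (κ → F) := d • Matrix.mulVecLin (p⁻¹ : GL κ F).val with hA
  have hAP : A ^ P = 1 := by
    have e : ∀ (n : ℕ) u, ((Matrix.mulVecLin (p⁻¹ : GL κ F).val) ^ n : Module.End F (κ → F)) u =
        ((p⁻¹) ^ n).val *ᵥ u := by
      intro n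
      induction n with
      | zero => simp
      | succ n ih =>
        intro u
        rw [pow_succ', Module.End.mul_apply, ih, pow_succ', mul_act]
        rfl
    refine LinearMap.ext fun u => ?_
    rw [hA, smul_pow, LinearMap.smul_apply, e, inv_pow, hd, ← Matrix.mulVec_smul, ← hk, inv_act,
      Module.End.one_apply]
  have hAiso : ∀ u v, α (A u) (A v) = d * d * ν⁻¹ * α u v := fun u v => by
    have h := hpν ((p⁻¹ : GL κ F).val *ᵥ u) ((p⁻¹ : GL κ F).val *ᵥ v)
    rw [act_inv, act_inv] at h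
    simp only [hA, LinearMap.smul_apply, Matrix.mulVecLin_apply, map_smul, smul_eq_mul, h]
    field_simp
  have hc1 : d * d * ν⁻¹ = 1 := by
    set m := d * d * ν⁻¹
    have hit : ∀ (n : ℕ) u v, α ((A ^ n) u) ((A ^ n) v) = m ^ n * α u v := by
      intro n
      induction n with
      | zero => simp
      | succ n ih =>
        intro u v
        rw [pow_succ', Module.End.mul_apply, Module.End.mul_apply, hAiso, ih, pow_succ']
        ring
    have h := hit P u₀ u₀
    rw [hAP] at h
    simp only [Module.End.one_apply] at h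
    have hm : m ^ P = 1 := mul_right_cancel₀ hu₀ (by rw [one_mul]; exact h.symm)
    exact frobenius_inj F P (by rw [frobenius_def, frobenius_def, hm, one_pow])
  haveI : CharP (Module.End F (κ → F)) P :=
    charP_of_injective_algebraMap (RingHom.injective (algebraMap F (Module.End F (κ → F)))) P
  have hnil : IsNilpotent (A - 1) :=
    ⟨P, by rw [sub_pow_char_of_commute P (Commute.one_right A), hAP, one_pow, sub_self]⟩
  have hrow : ∀ c v, T.swap.ctr c (Y.val *ᵥ v) = (ν / d) • (q.val *ᵥ T.swap.ctr (A c) v) := by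
    intro c v
    refine LinearMap.congr_fun (T.hom_ext
      (f := (T.swap.ctr c) ∘ₗ Matrix.mulVecLin Y.val)
      (g := (ν / d) • (Matrix.mulVecLin q.val ∘ₗ T.swap.ctr (A c))) fun u w => ?_) v
    have h := hpν u ((p⁻¹ : GL κ F).val *ᵥ c)
    rw [act_inv] at h
    simp only [LinearMap.comp_apply, Matrix.mulVecLin_apply, hpq, row_tau T, LinearMap.smul_apply,
      Matrix.mulVec_smul, smul_smul, hA, map_smul, smul_eq_mul, h]
    congr 1
    field_simp
  have hA1 : A - 1 = 0 := by
    by_cases hsq : ∀ u, (A - 1) ((A - 1) u) = 0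
    · refine skew_unip T h3 (fun u v => ?_) hsq
      simp only [LinearMap.sub_apply, Module.End.one_apply, add_sub_cancel]
      rw [hAiso, hc1, one_mul]
    push Not at hsq
    obtain ⟨c, hc'⟩ := hsq
    exfalso
    have h1 := fix_le T h3 (div_ne_zero hν hd0) hrow hnil hc'
    set d' := (c₁ * qf β e₁) • e₀ - (c₀ * qf β e₀) • e₁ with hd'
    have hd'W : d' ∈ perp2 β ⊤ x f :=
      sub_mem (Submodule.smul_mem _ _ D.mem₀) (Submodule.smul_mem _ _ D.mem₁)
    have had : β a d' = 0 := by
      simp [ha, hd', D.orth, ho', C.self]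
      ring
    have hd'0 : d' ≠ 0 := fun e => by
      have h₀ := congrArg (β e₀) e
      have h₁ := congrArg (β e₁) e
      simp [hd', D.orth, ho', n₀, n₁, D.ns₀, D.ns₁] at h₀ h₁
      rcases hc with hc | hc <;> contradiction
    obtain ⟨-, d1, d2⟩ := mem_perp2.1 hd'W
    have hli : LinearIndependent F ![x, d'] := by
      rw [linearIndependent_fin2]
      refine ⟨hd'0, fun t ht => ?_⟩
      have := congrArg (β f) ht
      simp [d2, H.pair' C] at this
    set S₂ := Submodule.span F (Set.range ![x, d']) with hS₂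
    have hdim : finrank F S₂ = 2 := by
      rw [hS₂, finrank_span_eq_card hli, Fintype.card_fin]
    have hfix : tn τ S₂ ≤ LinearMap.ker (Matrix.mulVecLin S.val - LinearMap.id) := by
      refine tn_le fun u s hs => ?_
      have : ∀ w ∈ S₂, σ.val *ᵥ w = w := fun w hw => by
        have hle : S₂ ≤ LinearMap.ker (Matrix.mulVecLin σ.val - LinearMap.id) :=
          Submodule.span_le.2 (by
            rintro _ ⟨i, rfl⟩
            simp only [SetLike.mem_coe, LinearMap.mem_ker, LinearMap.sub_apply,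
              Matrix.mulVecLin_apply, LinearMap.id_apply, sub_eq_zero, hσ, sGL_act C H.singE hxa]
            fin_cases i
            · simp [C.self_zero H.singE, C.symm a x, hxa]
            · simp [d1, had])
        exact sub_eq_zero.1 (LinearMap.mem_ker.1 (hle hw))
      simp [hS, T.liftR_act, this s hs]
    have h2 : (LinearMap.ker (Matrix.mulVecLin S.val - LinearMap.id)).map (Matrix.mulVecLin g.val) ≤
        LinearMap.ker (Matrix.mulVecLin Y.val - LinearMap.id) := by
      rintro _ ⟨v, hv, rfl⟩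
      have hv' : S.val *ᵥ v = v := sub_eq_zero.1 (LinearMap.mem_ker.1 hv)
      simp only [LinearMap.mem_ker, LinearMap.sub_apply, Matrix.mulVecLin_apply, LinearMap.id_apply,
        hYdef, mul_act, inv_act, hv', sub_self]
    have h5 := Submodule.finrank_mono ((Submodule.map_mono hfix).trans h2)
    rw [← LinearEquiv.finrank_eq (Submodule.equivMapOfInjective _ (Orth.act_injective g) _),
      finrank_tn T, hdim, h3] at h5
    omega
  have hp1 : ∀ u, p.val *ᵥ u = d • u := fun u => by
    have h := LinearMap.congr_fun (sub_eq_zero.1 hA1) (p.val *ᵥ u)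
    simp only [hA, LinearMap.smul_apply, Matrix.mulVecLin_apply, inv_act, Module.End.one_apply] at h
    exact h.symm
  set r : (μ → F) →ₗ[F] (μ → F) := d • Matrix.mulVecLin q.val
  have hr : ∀ u w, Y.val *ᵥ τ u w = τ u (r w) := fun u w => by
    rw [hpq, hp1]; simp [r]
  -- the square
  let E : (ι → F) →ₗ[F] (ι → F) := (opHom Y - 1) * (opHom Y - 1)
  let E₀ : (ι → F) →ₗ[F] (ι → F) := (opHom S - 1) * (opHom S - 1)
  have hE₀ : ∀ u v, E₀ (τ u v) = τ u ((-(2 * qf β a) * β x v) • x) := by
    intro u v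
    simp only [E₀, Module.End.mul_apply, LinearMap.sub_apply, Module.End.one_apply, opHom_apply,
      hS, hσ, T.liftR_act, ← map_sub, sGL_act C H.singE hxa]
    congr 1
    simp [T.qf_zero.1 H.singE, hxa, T.sβ a x, C.self a]
    module
  have hE : ∀ v, E (g.val *ᵥ v) = g.val *ᵥ E₀ v := fun v => by
    simp [E, E₀, hYdef, mul_act, inv_act, Matrix.mulVec_sub, opHom_apply]
  have hrE : ∀ u v, E (τ u v) = τ u ((r - LinearMap.id : (μ → F) →ₗ[F] (μ → F))
      ((r - LinearMap.id : (μ → F) →ₗ[F] (μ → F)) v)) := fun u v => by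
    simp [E, opHom_apply, hr, Matrix.mulVec_sub, -Matrix.mulVec_mulVec]
  have hc2 : -(2 * qf β a) ≠ 0 := neg_ne_zero.2 (mul_ne_zero T.h2 hqa)
  have hrange₀ : LinearMap.range E₀ = tn τ (Submodule.span F {x}) := by
    rw [range_eq_tn T (e := (-(2 * qf β a)) • (β x).smulRight x) fun u v => by
      rw [hE₀, LinearMap.smul_apply, LinearMap.smulRight_apply, smul_smul]]
    congr 1
    refine le_antisymm ?_ ((Submodule.span_singleton_le_iff_mem _ _).2 ?_)
    · rintro _ ⟨v, rfl⟩
      simp only [LinearMap.smul_apply, LinearMap.smulRight_apply, smul_smul]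
      exact Submodule.smul_mem _ _ (Submodule.mem_span_singleton_self x)
    · exact ⟨(-(2 * qf β a))⁻¹ • f, by
        rw [LinearMap.smul_apply, LinearMap.smulRight_apply, map_smul, H.pair, smul_smul,
          smul_eq_mul, mul_one, mul_inv_cancel₀ hc2, one_smul]⟩
  set R₂ := LinearMap.range ((r - LinearMap.id) ∘ₗ (r - LinearMap.id))
  have hrange : (tn τ (Submodule.span F {x})).map (Matrix.mulVecLin g.val) = tn τ R₂ := by
    rw [← range_eq_tn T (f := E) (e := (r - LinearMap.id) ∘ₗ (r - LinearMap.id)) hrE, ← hrange₀]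
    refine le_antisymm ?_ ?_
    · rintro _ ⟨_, ⟨v, rfl⟩, rfl⟩
      exact ⟨g.val *ᵥ v, hE v⟩
    · rintro _ ⟨v, rfl⟩
      exact ⟨E₀ ((g⁻¹ : GL ι F).val *ᵥ v), ⟨_, rfl⟩, by
        rw [Matrix.mulVecLin_apply, ← hE, act_inv]⟩
  have hR₂ : Module.finrank F R₂ = 1 := by
    have h1 := congrArg (fun S : Submodule F (ι → F) => Module.finrank F S) hrange
    rw [← LinearEquiv.finrank_eq (Submodule.equivMapOfInjective _ (Orth.act_injective g) _),
      finrank_tn T, finrank_tn T, finrank_span_singleton hx0] at h1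
    exact (Nat.eq_of_mul_eq_mul_left hκ h1).symm
  obtain ⟨y, hy, hy0⟩ := Submodule.exists_mem_ne_zero_of_ne_bot (p := R₂) fun h => by
    rw [h, finrank_bot] at hR₂; omega
  have hspan : R₂ = Submodule.span F {y} :=
    (Submodule.eq_of_le_of_finrank_le ((Submodule.span_singleton_le_iff_mem _ _).2 hy)
      (by rw [hR₂, finrank_span_singleton hy0])).symm
  rw [hspan] at hrange
  have hysing : qf β y = 0 := by
    obtain ⟨v, hv, e⟩ :=
      (hrange.symm.le (tau_mem_tn u₀ (Submodule.mem_span_singleton_self y)) : τ u₀ y ∈ _)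
    obtain ⟨u, rfl⟩ := mem_tn_single hv
    have h1 : B (τ u₀ y) (τ u₀ y) = 0 := by
      rw [← e, Matrix.mulVecLin_apply, T.space.B_act hgI, T.pair, T.qf_zero.1 H.singE, mul_zero]
    rw [T.pair] at h1
    exact T.qf_zero.2 ((mul_eq_zero.1 h1).resolve_left hu₀)
  exact pure_of_line4 T hlose hL (by omega) hq h4 hNP hg H.singE hx0 hysing hy0 fun u =>
    mem_tn_single (hrange.le ⟨τ u x, tau_mem_tn u (Submodule.mem_span_singleton_self x), rfl⟩)

end Cfsg.Lib.Linear.OOTensor.MinusFour
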