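import Cfsg.Agent.Lib.Linear.OOTensor.MinusFour.Quartic
import Cfsg.Agent.Lib.Linear.OOTensor.Max
import Cfsg.Agent.Lib.Linear.OOTensor.Apply

/-!
# The stabiliser of dimension three times dimension four of minus type is maximal
-/

set_option autoImplicit false
set_option linter.unusedSectionVars false
set_option linter.unusedSimpArgs false

namespace Cfsg.Lib.Linear.OOTensor.MinusFour

open Module
open scoped Matrix Kronecker commutatorElement
open Cfsg.Lib.Linear.Orth
open Cfsg.Lib.Linear.SpOTensor (tensor tensor_apply span_tensor mem_of_tensor bilin_eq_sum)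

variable {ι : Type} [Fintype ι] [DecidableEq ι] {F : Type*} [Field F] {Q : (ι → F) → F}

/-- The stabiliser is maximal. -/
theorem maximal [Fintype F] {n₁ n₂ : ℕ} (e : ι ≃ Fin n₁ × Fin n₂) (P : GL ι F)
    (hQ : Cfsg.Geo.IsNondegenerateQuadraticForm Q) (hodd : Odd (Fintype.card F))
    {f₁ : (Fin n₁ → F) → (Fin n₁ → F) → F} {f₂ : (Fin n₂ → F) → (Fin n₂ → F) → F}
    (hf₁ : Cfsg.Geo.IsSymmetricForm f₁) (hf₂ : Cfsg.Geo.IsSymmetricForm f₂)
    (hT : Cfsg.Geo.IsTensorFormStructure id (QuadraticMap.polar Q) f₁ f₂ e P)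
    (h3 : n₁ = 3) (h4 : n₂ = 4) (h5q : 5 ≤ Fintype.card F)
    (hminus : ¬ Cfsg.Geo.IsPlusTypeOn (fun v : Fin n₂ → F => f₂ v v) ⊤) :
    Cfsg.Geo.IsMaximalIn (Cfsg.Geo.omegaGL Q)
      (Cfsg.Geo.tensorProductSubgroup n₁ n₂ e P ⊓ Cfsg.Geo.omegaGL Q) := by
  classical
  obtain ⟨B, C⟩ := exists_space hQ
  obtain ⟨c, hc0, hc⟩ := hT
  have hn : Fintype.card ι = n₁ * n₂ := by simpa using Fintype.card_congr e
  subst h3 h4
  have h2 : (2 : F) ≠ 0 := two_ne_zero_of_odd_card hodd
  let α₁ : LinearMap.BilinForm F (Fin 3 → F) := LinearMap.mk₂ F f₁ hf₁.bilinear.add_left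
    hf₁.bilinear.smul_left hf₁.bilinear.add_right hf₁.bilinear.smul_right
  let β : LinearMap.BilinForm F (Fin 4 → F) := LinearMap.mk₂ F f₂ hf₂.bilinear.add_left
    hf₂.bilinear.smul_left hf₂.bilinear.add_right hf₂.bilinear.smul_right
  have T : Ten Q B (c • α₁) β (tensor e P) := by
    refine ⟨h2, C, fun v hv => ?_, fun a b => ?_, fun v hv => ?_, hf₂.symm, fun a x b y => ?_,
      span_tensor e P⟩
    · by_contra hne
      obtain ⟨x, hx⟩ := (hf₁.nondegenerate v hne).2
      exact mul_ne_zero hc0 hx (hv x)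
    · show c * f₁ a b = c * f₁ b a
      rw [hf₁.symm]
    · by_contra hne
      obtain ⟨x, hx⟩ := (hf₂.nondegenerate v hne).2
      exact hx (hv x)
    rw [← C.polar]
    show QuadraticMap.polar Q
      ((P : Matrix ι ι F) *ᵥ ((fun p : Fin 3 × Fin 4 => a p.1 * x p.2) ∘ e))
      ((P : Matrix ι ι F) *ᵥ ((fun p : Fin 3 × Fin 4 => b p.1 * y p.2) ∘ e)) = _
    rw [hc, LinearMap.smul_apply, LinearMap.smul_apply, smul_eq_mul, bilin_eq_sum α₁, bilin_eq_sum β,
      mul_assoc]
    congr 1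
    simp only [Cfsg.Geo.formOfGram, Fintype.sum_prod_type, Finset.sum_mul, Finset.mul_sum, id_eq,
      Matrix.kroneckerMap_apply, Cfsg.Geo.gramMatrix]
    rw [Finset.sum_comm]
    refine Finset.sum_congr rfl fun p _ => ?_
    refine Eq.trans (Finset.sum_congr rfl fun i _ => Finset.sum_comm) ?_
    rw [Finset.sum_comm]
    refine Finset.sum_congr rfl fun q _ => Finset.sum_congr rfl fun i _ =>
      Finset.sum_congr rfl fun j _ => ?_
    simp only [α₁, β, LinearMap.mk₂_apply]
    ring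
  have hz : ∀ v, qf (c • α₁) v = 0 → f₁ v v = 0 := fun v hv => by
    simpa [qf, h2, hc0, α₁] using hv
  have hU : ∀ a b, qf (c • α₁) a = 0 → qf (c • α₁) b = 0 → (c • α₁) a b = 0 → a ≠ 0 →
      b ∈ Submodule.span F {a} := fun a b ha hb hab ha0 =>
    dep_of_no_plane hf₁ (fun U hU => no_plane_three hf₁ h2 (by omega) U hU) a b (hz a ha) (hz b hb)
      (by simpa [α₁, hc0] using hab) ha0
  have hNP : NoPlane β := fun a b ha hb hab ha0 => by
    refine dep_of_no_plane hf₂ (fun U hU hd => hminus ⟨U, le_top, hU, ?_⟩) a b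
      (T.qf_zero.1 ha) (T.qf_zero.1 hb) hab ha0
    rw [hd, finrank_top, finrank_fintype_fun_eq_card, Fintype.card_fin]
  have hs : 4 ≤ Fintype.card (Fin 3) ∨ ∃ s : F, s ≠ 0 ∧ s * s ≠ 1 := by
    refine Or.inr ?_
    by_contra hcon
    push Not at hcon
    have hall : ∀ s : F, s ∈ ({0, 1, -1} : Finset F) := fun s => by
      rcases eq_or_ne s 0 with rfl | hs
      · simp
      have h4 : (s - 1) * (s + 1) = 0 := by linear_combination hcon s hs
      rcases mul_eq_zero.1 h4 with h | h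
      · simp [sub_eq_zero.1 h]
      · simp [eq_neg_of_add_eq_zero_left h]
    have hle : Fintype.card F ≤ 3 :=
      (Finset.card_le_card (fun s _ => hall s : (Finset.univ : Finset F) ⊆ _)).trans
        Finset.card_le_three
    omega
  set T₀ := Cfsg.Geo.tensorProductSubgroup 3 4 e P
  have hΩ : Cfsg.Geo.omegaGL Q = Root Q B ⊤ := omegaGL_eq C (by omega)
  have hcomm : Cfsg.Geo.omegaGL Q = ⁅isometryGroup F Q, isometryGroup F Q⁆ := by
    rw [Cfsg.Geo.omegaGL, Subgroup.map_subtype_commutator]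
  have hinj : ∀ {n : ℕ} (g : GL (Fin n) F), Function.Injective (Matrix.mulVecLin g.val) :=
    fun g => Orth.act_injective g
  refine ⟨lt_of_le_of_ne inf_le_right fun h => ?_, fun M hM hMΩ => ?_⟩
  · refine AschOrth.not_omega_le_tensor C (by omega) (by omega) (by omega) ?_ (h ▸ inf_le_left)
    rw [hn]
    nlinarith
  have hOver : Over T M := by
    refine ⟨hMΩ.trans (hΩ ▸ root_le_iso C ⊤), fun x a hx ha => hM ⟨?_, ?_⟩,
      fun u a hu hua => hM ⟨?_, ?_⟩⟩
    · exact mem_of_tensor e P LinearMap.id (Matrix.mulVecLin (sGL (qf β) β x a).val)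
        Function.injective_id (hinj _) fun b w => T.liftR_act _ b w
    · rw [SetLike.mem_coe, hcomm]
      exact liftR_mem_comm T (by simp) hx ha
    · exact mem_of_tensor e P (Matrix.mulVecLin (sGL (qf (c • α₁)) (c • α₁) u a).val) LinearMap.id
        (hinj _) Function.injective_id fun b w => T.liftL_act _ b w
    · rw [SetLike.mem_coe, hcomm]
      exact liftR_mem_comm T.swap (by simp) hu hua
  obtain ⟨x, f, H⟩ := exists_hyp' T.SW T.SW.ndeg_top
    (by rw [finrank_top, finrank_fintype_fun_eq_card, Fintype.card_fin]; omega)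
  by_cases hlose : Losing T M
  · refine Or.inl (le_antisymm (le_inf (fun g hg => ?_) hMΩ) hM)
    obtain ⟨p, q, hpq⟩ := pure_all4 T hlose hOver (Fintype.card_fin _) (Fintype.card_fin _) h5q hs
      hNP H hg
    exact mem_of_tensor e P (Matrix.mulVecLin p.val) (Matrix.mulVecLin q.val) (hinj _) (hinj _)
      fun a x => hpq a x
  · refine Or.inr (le_antisymm hMΩ (hΩ ▸ root_le_of_long T (by simp) (by simp) hOver
      fun {_x} hx hx0 {_φ} hφ => long_all' T (by simp) (Or.inr hU)
        (fun x y hx hx0 hy hy0 => trans T.SW T.h2 (Fintype.card_fin _) hNP hx hx0 hy hy0)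
        hOver hlose hx hx0 hφ))

end Cfsg.Lib.Linear.OOTensor.MinusFour
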