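import Cfsg.Agent.Lib.Linear.OOTensor.MinusFour.Unip
import Cfsg.Agent.Lib.Linear.OOTensor.Parab

/-!
# A form of degree four of a tensor product

The isometries preserving it act factorwise, when the second factor is of minus type of dimension
four; and it is polynomial of bounded degree along a two parameter group of Siegel elements.
-/

set_option autoImplicit false
set_option linter.unusedSectionVars false
set_option linter.unusedSimpArgs false

namespace Cfsg.Lib.Linear.OOTensor.MinusFour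

open Module
open scoped Matrix
open Cfsg.Lib.Linear.Orth

section Degree

variable {F : Type*} [Field F] {M M' : Type*} [AddCommGroup M] [Module F M] [AddCommGroup M']
  [Module F M']

/-- Polynomial of bounded degree in two parameters. -/
def Deg2 (n : ℕ) (f : (Fin 2 → F) → F) : Prop :=
  ∃ P : MvPolynomial (Fin 2) F, P.totalDegree ≤ n ∧ ∀ a, f a = MvPolynomial.eval a P

theorem Deg2.congr {n : ℕ} {f g : (Fin 2 → F) → F} (hf : Deg2 n f) (h : ∀ a, f a = g a) :
    Deg2 n g := by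
  obtain ⟨P, hP, hfP⟩ := hf
  exact ⟨P, hP, fun a => (h a).symm.trans (hfP a)⟩

theorem Deg2.mono {m n : ℕ} {f : (Fin 2 → F) → F} (hf : Deg2 m f) (h : m ≤ n) : Deg2 n f := by
  obtain ⟨P, hP, hfP⟩ := hf
  exact ⟨P, hP.trans h, hfP⟩

theorem Deg2.const (c : F) : Deg2 0 fun _ => c :=
  ⟨MvPolynomial.C c, by simp, fun a => by simp⟩

theorem Deg2.coord (i : Fin 2) : Deg2 (F := F) 1 fun a => a i :=
  ⟨MvPolynomial.X i, by simp, fun a => by simp⟩

theorem Deg2.add {n : ℕ} {f g : (Fin 2 → F) → F} (hf : Deg2 n f) (hg : Deg2 n g) :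
    Deg2 n fun a => f a + g a := by
  obtain ⟨P, hP, hfP⟩ := hf
  obtain ⟨R, hR, hgR⟩ := hg
  exact ⟨P + R, (MvPolynomial.totalDegree_add _ _).trans (max_le hP hR), fun a => by simp [hfP, hgR]⟩

theorem Deg2.mul {m n : ℕ} {f g : (Fin 2 → F) → F} (hf : Deg2 m f) (hg : Deg2 n g) :
    Deg2 (m + n) fun a => f a * g a := by
  obtain ⟨P, hP, hfP⟩ := hf
  obtain ⟨R, hR, hgR⟩ := hg
  exact ⟨P * R, (MvPolynomial.totalDegree_mul _ _).trans (add_le_add hP hR),
    fun a => by simp [hfP, hgR]⟩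

theorem Deg2.sum {n : ℕ} {S : Type*} (s : Finset S) {f : S → (Fin 2 → F) → F}
    (hf : ∀ i ∈ s, Deg2 n (f i)) : Deg2 n fun a => ∑ i ∈ s, f i a := by
  classical
  induction s using Finset.induction_on with
  | empty => exact ((Deg2.const 0).mono (Nat.zero_le n)).congr fun a => by simp
  | insert i s hi ih =>
    refine ((hf i (Finset.mem_insert_self i s)).add
      (ih fun j hj => hf j (Finset.mem_insert_of_mem hj))).congr fun a => ?_
    rw [Finset.sum_insert hi]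

theorem Deg2.sum_zero [Fintype F] {n : ℕ} {f : (Fin 2 → F) → F} (hf : Deg2 n f)
    (hn : n < (Fintype.card F - 1) * 2) : ∑ a, f a = 0 := by
  classical
  obtain ⟨P, hP, hfP⟩ := hf
  rw [Fintype.sum_congr _ _ hfP]
  exact MvPolynomial.sum_eval_eq_zero P (by rw [Fintype.card_fin]; omega)

/-- Vector valued version. -/
def DegV2 (n : ℕ) (f : (Fin 2 → F) → M) : Prop := ∀ l : M →ₗ[F] F, Deg2 n fun a => l (f a)

theorem DegV2.bilin [FiniteDimensional F M] [FiniteDimensional F M'] {m n : ℕ}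
    {f : (Fin 2 → F) → M} {g : (Fin 2 → F) → M'} (hf : DegV2 m f) (hg : DegV2 n g)
    (β : M →ₗ[F] M' →ₗ[F] F) : Deg2 (m + n) fun a => β (f a) (g a) := by
  let b := Module.finBasis F M
  let b' := Module.finBasis F M'
  refine (Deg2.sum Finset.univ fun i (_ : i ∈ Finset.univ) => Deg2.sum Finset.univ fun j
    (_ : j ∈ Finset.univ) => ((Deg2.const (β (b i) (b' j))).mul
      ((hf (b.coord i)).mul (hg (b'.coord j)))).mono (Nat.zero_add _).le).congr fun a => ?_
  conv_rhs => rw [← b.sum_repr (f a), ← b'.sum_repr (g a)]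
  simp only [map_sum, map_smul, LinearMap.sum_apply, LinearMap.smul_apply, Finset.smul_sum,
    smul_smul, smul_eq_mul, Basis.coord_apply, Finset.mul_sum]
  conv_rhs => rw [Finset.sum_comm]
  exact Finset.sum_congr rfl fun i _ => Finset.sum_congr rfl fun j _ => by ring

end Degree

variable {ι κ μ : Type} [Fintype ι] [DecidableEq ι] [Fintype κ] [DecidableEq κ] [Fintype μ]
  [DecidableEq μ] {F : Type*} [Field F] {Q : (ι → F) → F} {B : LinearMap.BilinForm F (ι → F)}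
  {α : LinearMap.BilinForm F (κ → F)} {β : LinearMap.BilinForm F (μ → F)}
  {τ : (κ → F) →ₗ[F] (μ → F) →ₗ[F] (ι → F)} {L : Subgroup (GL ι F)} (T : Ten Q B α β τ)
include T

/-- The form of degree four, bilinear in its last two arguments. -/
noncomputable def quad (v₁ v₂ : ι → F) : LinearMap.BilinForm F (ι → F) :=
  ∑ i, ∑ j, β (T.swap.ctr (Pi.single i 1) v₁) (T.swap.ctr (Pi.single j 1) v₂) •
    β.comp (T.swap.ctr ((α.toDual T.nα').symm (LinearMap.proj i)))
      (T.swap.ctr ((α.toDual T.nα').symm (LinearMap.proj j)))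

theorem row_tau (c a : κ → F) (w : μ → F) : T.swap.ctr c (τ a w) = α a c • w := by
  rw [show τ a w = τ.flip w a from rfl, T.swap.ctr_tau]

theorem quad_tau (v₁ v₂ : ι → F) (a b : κ → F) (w z : μ → F) :
    quad T v₁ v₂ (τ a w) (τ b z) = β (T.swap.ctr a v₁) (T.swap.ctr b v₂) * β w z := by
  have hd : ∀ (c : κ → F) i, α c ((α.toDual T.nα').symm (LinearMap.proj i)) = c i := fun c i => by
    rw [T.sα, LinearMap.BilinForm.apply_toDual_symm_apply]; rfl
  simp only [quad, LinearMap.sum_apply, LinearMap.smul_apply, LinearMap.BilinForm.comp_apply,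
    row_tau T, hd, map_smul, smul_eq_mul]
  conv_rhs => rw [pi_eq_sum_univ' a, pi_eq_sum_univ' b]
  simp only [map_sum, map_smul, LinearMap.sum_apply, LinearMap.smul_apply, smul_eq_mul,
    Finset.mul_sum, Finset.sum_mul]
  rw [Finset.sum_comm]
  exact Finset.sum_congr rfl fun i _ => Finset.sum_congr rfl fun j _ => by ring

theorem quad_add_left (v v' v₂ v₃ v₄ : ι → F) :
    quad T (v + v') v₂ v₃ v₄ = quad T v v₂ v₃ v₄ + quad T v' v₂ v₃ v₄ := by
  simp [quad, LinearMap.sum_apply, add_mul, Finset.sum_add_distrib]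

theorem quad_smul_left (c : F) (v v₂ v₃ v₄ : ι → F) :
    quad T (c • v) v₂ v₃ v₄ = c * quad T v v₂ v₃ v₄ := by
  simp [quad, LinearMap.sum_apply, Finset.mul_sum, mul_assoc]

/-- The form evaluated on images. -/
noncomputable def quadX (X : GL ι F) (v₁ v₂ v₃ v₄ : ι → F) : F :=
  quad T (X.val *ᵥ v₁) (X.val *ᵥ v₂) (X.val *ᵥ v₃) (X.val *ᵥ v₄)

theorem quadX_mul (X Y : GL ι F) (v₁ v₂ v₃ v₄ : ι → F) :
    quadX T (X * Y) v₁ v₂ v₃ v₄ =
      quadX T X (Y.val *ᵥ v₁) (Y.val *ᵥ v₂) (Y.val *ᵥ v₃) (Y.val *ᵥ v₄) := by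
  simp only [quadX, mul_act]

/-- Factorwise isometries preserve the form. -/
theorem quadX_pure (hκ : 0 < Fintype.card κ) (hμ : 0 < Fintype.card μ) {g : GL ι F}
    (hg : g ∈ isometryGroup F Q) (hp : Pure τ g) : quadX T g = quadX T 1 := by
  obtain ⟨p, q, hpq⟩ := hp
  obtain ⟨ν, hν, hpν, hqν⟩ := Pure.sim T hκ hμ hg hpq
  have hrow : ∀ a v, T.swap.ctr (p.val *ᵥ a) (g.val *ᵥ v) = ν • (q.val *ᵥ T.swap.ctr a v) := by
    intro a v
    refine LinearMap.congr_fun (T.hom_ext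
      (f := (T.swap.ctr (p.val *ᵥ a)) ∘ₗ Matrix.mulVecLin g.val)
      (g := ν • (Matrix.mulVecLin q.val ∘ₗ T.swap.ctr a)) fun c w => ?_) v
    simp [hpq, row_tau T, hpν, smul_smul, Matrix.mulVec_smul]
  funext v₁ v₂ v₃ v₄
  simp only [quadX, Units.val_one, Matrix.one_mulVec]
  refine LinearMap.congr_fun₂ (LinearMap.ext_on T.span (f := (quad T (g.val *ᵥ v₁) (g.val *ᵥ v₂)).comp
    (Matrix.mulVecLin g.val) (Matrix.mulVecLin g.val)) (g := quad T v₁ v₂) ?_) v₃ v₄
  rintro _ ⟨⟨a, w⟩, rfl⟩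
  refine T.hom_ext fun b z => ?_
  simp only [LinearMap.BilinForm.comp_apply, Matrix.mulVecLin_apply, hpq, quad_tau T, hrow,
    hqν, map_smul, LinearMap.smul_apply, smul_eq_mul]
  field_simp

variable (hlose : Losing T L) (hL : Over T L)
include hlose hL

/-- An element taking one singular line to another acts factorwise. -/
theorem pure_of_line4 [Finite F] (hm : 3 ≤ Fintype.card κ)
    (hq : 4 ≤ Fintype.card κ ∨ ∃ s : F, s ≠ 0 ∧ s * s ≠ 1) (h4 : Fintype.card μ = 4)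
    (hNP : NoPlane β) {g : GL ι F} (hg : g ∈ L) {x y : μ → F} (hx : qf β x = 0) (hx0 : x ≠ 0)
    (hy : qf β y = 0) (hy0 : y ≠ 0) (hgx : ∀ u, ∃ u', g.val *ᵥ τ u x = τ u' y) : Pure τ g := by
  obtain ⟨h, hh, hhx⟩ := trans T.SW T.h2 h4 hNP hy hy0 hx hx0
  obtain ⟨f, H⟩ := exists_hyp T.SW T.SW.ndeg_top (Submodule.mem_top : x ∈ ⊤) hx0 hx
  obtain ⟨e₀, e₁, D⟩ := exists_four T.SW T.h2 h4 hNP H
  have hp : Pure τ (T.liftR h * g) :=
    pure_of_stab' T H hlose hL hm (by omega) hq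
      (fun hg hu => unip_eq4 T D hlose hL hm hq hg hu) (mul_mem (hL.root hh) hg) fun u => by
        obtain ⟨u', hu'⟩ := hgx u
        exact ⟨u', by rw [mul_act, hu', T.liftR_act, hhx]⟩
  have h1 := (pureGroup τ).mul_mem ((pureGroup τ).inv_mem
    (mem_pureGroup.2 (T.liftR_pure h))) (mem_pureGroup.2 hp)
  rwa [inv_mul_cancel_left] at h1

/-- The stabiliser of the form acts factorwise. -/
theorem pure_of_quad [Finite F] (hm : 3 ≤ Fintype.card κ)
    (hq : 4 ≤ Fintype.card κ ∨ ∃ s : F, s ≠ 0 ∧ s * s ≠ 1) (h4 : Fintype.card μ = 4)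
    (hNP : NoPlane β) {x : μ → F} (hx : qf β x = 0) (hx0 : x ≠ 0) {g : GL ι F} (hg : g ∈ L)
    (hQ : quadX T g = quadX T 1) : Pure τ g := by
  obtain ⟨z₀, hz₀⟩ := T.exists_one hx0
  have hts : ∀ u u' a b, β (T.swap.ctr a (g.val *ᵥ τ u x)) (T.swap.ctr b (g.val *ᵥ τ u' x)) = 0 := by
    intro u u' a b
    have h1 := congrFun (congrFun (congrFun (congrFun hQ (τ u x)) (τ u' x))
      ((g⁻¹ : GL ι F).val *ᵥ τ a x)) ((g⁻¹ : GL ι F).val *ᵥ τ b z₀)
    simp only [quadX, act_inv, Units.val_one, Matrix.one_mulVec] at h1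
    rw [quad_tau T, hz₀, mul_one] at h1
    rw [h1]
    refine LinearMap.congr_fun₂ (LinearMap.ext_on T.span (f := quad T (τ u x) (τ u' x)) (g := 0) ?_)
      _ _
    rintro _ ⟨⟨c, w⟩, rfl⟩
    refine T.hom_ext fun d z => ?_
    simp [quad_tau T, row_tau T, T.qf_zero.1 hx]
  obtain ⟨u₀, hu₀⟩ : ∃ u : κ → F, u ≠ 0 :=
    ⟨Pi.single (Fintype.card_pos_iff.1 (by omega : 0 < Fintype.card κ)).some 1, by simp⟩
  obtain ⟨a₀, ha₀⟩ : ∃ a, T.swap.ctr a (g.val *ᵥ τ u₀ x) ≠ 0 := by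
    by_contra hcon
    push Not at hcon
    exact Orth.act_ne_zero (T.tau_ne_zero hu₀ hx0)
      (T.swap.eq_of_ctr fun c => by rw [hcon c, map_zero])
  set y := T.swap.ctr a₀ (g.val *ᵥ τ u₀ x)
  have hy : qf β y = 0 := T.qf_zero.2 (hts u₀ u₀ a₀ a₀)
  have hrow : ∀ u a, T.swap.ctr a (g.val *ᵥ τ u x) ∈ Submodule.span F {y} := fun u a =>
    hNP y _ hy (T.qf_zero.2 (hts u u a a)) (hts u₀ u a₀ a) ha₀
  obtain ⟨z, hz⟩ := T.exists_one ha₀
  refine pure_of_line4 T hlose hL hm hq h4 hNP hg hx hx0 hy ha₀ fun u =>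
    ⟨T.ctr z (g.val *ᵥ τ u x), T.swap.eq_of_ctr fun c => ?_⟩
  obtain ⟨k, hk⟩ := Submodule.mem_span_singleton.1 (hrow u c)
  have h1 : α (T.ctr z (g.val *ᵥ τ u x)) c = k := by
    rw [T.α_ctr, show τ c z = τ.flip z c from rfl, ← T.swap.α_ctr, ← hk, map_smul,
      LinearMap.smul_apply, hz, smul_eq_mul, mul_one]
  rw [row_tau T, h1]
  exact hk.symm

end Cfsg.Lib.Linear.OOTensor.MinusFour
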