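import Cfsg.Agent.Lib.Linear.OOTensor.MinusFour.Conj

/-!
# All elements act factorwise

The orbit sums of the form of degree four along a group of Siegel elements vanish off the vectors
`U ⊗ f`, hence everywhere; so the sum over the whole group is the form itself, which is invariant.
-/

set_option autoImplicit false
set_option linter.unusedSectionVars false
set_option linter.unusedSimpArgs false

namespace Cfsg.Lib.Linear.OOTensor.MinusFour

open Module
open scoped Matrix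
open Cfsg.Lib.Linear.Orth

variable {ι κ μ : Type} [Fintype ι] [DecidableEq ι] [Fintype κ] [DecidableEq κ] [Fintype μ]
  [DecidableEq μ] {F : Type*} [Field F] {Q : (ι → F) → F} {B : LinearMap.BilinForm F (ι → F)}
  {α : LinearMap.BilinForm F (κ → F)} {β : LinearMap.BilinForm F (μ → F)}
  {τ : (κ → F) →ₗ[F] (μ → F) →ₗ[F] (ι → F)} {L : Subgroup (GL ι F)} (T : Ten Q B α β τ)
include T

/-- The orbit sums vanish when the first vector lies in `U ⊗ x^⊥`. -/
theorem quadX_sum_zero [Fintype F] (h5 : 5 ≤ Fintype.card F) {x f e₀ e₁ : μ → F}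
    (D : Four β x f e₀ e₁) (X : GL ι F) {v₁ : ι → F} (hv : T.ctr x v₁ = 0) (v₂ v₃ v₄ : ι → F) :
    ∑ c : Fin 2 → F, quadX T (X * T.liftR (sGL (qf β) β x (c 0 • e₀ + c 1 • e₁))) v₁ v₂ v₃ v₄
      = 0 := by
  obtain ⟨-, a1, a2⟩ := mem_perp2.1 D.mem₀
  obtain ⟨-, b1, b2⟩ := mem_perp2.1 D.mem₁
  let Sc : (Fin 2 → F) → GL ι F := fun c =>
    X * T.liftR (sGL (qf β) β x (c 0 • e₀ + c 1 • e₁))
  have hact : ∀ (v : ι → F) c, (Sc c).val *ᵥ v = X.val *ᵥ v +
      c 0 • (X.val *ᵥ (τ (T.ctr x v) e₀ - τ (T.ctr e₀ v) x)) +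
      c 1 • (X.val *ᵥ (τ (T.ctr x v) e₁ - τ (T.ctr e₁ v) x)) +
      (qf β e₀ * (c 0 * c 0) + qf β e₁ * (c 1 * c 1)) • (X.val *ᵥ -τ (T.ctr x v) x) := by
    intro v c
    have hq : qf β (c 0 • e₀ + c 1 • e₁) =
        qf β e₀ * (c 0 * c 0) + qf β e₁ * (c 1 * c 1) := by
      rw [D.C.smul_add, D.orth]; ring
    simp only [Sc]
    rw [mul_act, T.liftR_sGL_act D.hyp (by simp [a1, b1]), hq, ← Matrix.mulVec_smul,
      ← Matrix.mulVec_smul, ← Matrix.mulVec_smul, ← Matrix.mulVec_add, ← Matrix.mulVec_add,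
      ← Matrix.mulVec_add]
    congr 1
    simp only [map_add, map_smul, LinearMap.add_apply, LinearMap.smul_apply]
    module
  have h2 : ∀ v, DegV2 (F := F) 2 fun c => (Sc c).val *ᵥ v := fun v l => by
    refine (((((Deg2.const (l (X.val *ᵥ v))).mono (Nat.zero_le 2)).add
      (((Deg2.coord 0).mul (Deg2.const (l (X.val *ᵥ (τ (T.ctr x v) e₀ - τ (T.ctr e₀ v) x))))).mono
        one_le_two)).add
      (((Deg2.coord 1).mul (Deg2.const (l (X.val *ᵥ (τ (T.ctr x v) e₁ - τ (T.ctr e₁ v) x))))).mono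
        one_le_two)).add
      ((((Deg2.const (qf β e₀ * l (X.val *ᵥ -τ (T.ctr x v) x))).mul
        ((Deg2.coord 0).mul (Deg2.coord 0))).add
        ((Deg2.const (qf β e₁ * l (X.val *ᵥ -τ (T.ctr x v) x))).mul
        ((Deg2.coord 1).mul (Deg2.coord 1)))).mono le_rfl)).congr fun c => ?_
    show _ = l ((Sc c).val *ᵥ v)
    rw [hact, map_add, map_add, map_add, map_smul, map_smul, map_smul]
    simp only [smul_eq_mul]
    ring
  have h1 : DegV2 (F := F) 1 fun c => (Sc c).val *ᵥ v₁ := fun l => by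
    refine ((((Deg2.const (l (X.val *ᵥ v₁))).mono (Nat.zero_le 1)).add
      (((Deg2.coord 0).mul (Deg2.const (l (X.val *ᵥ -τ (T.ctr e₀ v₁) x)))).mono le_rfl)).add
      (((Deg2.coord 1).mul (Deg2.const (l (X.val *ᵥ -τ (T.ctr e₁ v₁) x)))).mono le_rfl)).congr
      fun c => ?_
    show _ = l ((Sc c).val *ᵥ v₁)
    rw [hact, hv]
    simp [map_add, mul_comm]
  have hdeg : Deg2 7 fun c => quadX T (Sc c) v₁ v₂ v₃ v₄ := by
    refine (Deg2.sum Finset.univ fun i (_ : i ∈ Finset.univ) => Deg2.sum Finset.univ fun j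
      (_ : j ∈ Finset.univ) => (h1.bilin (h2 v₂)
        (β.comp (T.swap.ctr (Pi.single i 1)) (T.swap.ctr (Pi.single j 1)))).mul
      ((h2 v₃).bilin (h2 v₄) (β.comp (T.swap.ctr ((α.toDual T.nα').symm (LinearMap.proj i)))
        (T.swap.ctr ((α.toDual T.nα').symm (LinearMap.proj j)))))).congr fun c => ?_
    simp [quadX, quad, LinearMap.sum_apply, -Matrix.mulVec_mulVec]
  exact hdeg.sum_zero (by omega)

variable (hlose : Losing T L) (hL : Over T L)
include hlose hL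

/-- Every element acts factorwise. -/
theorem pure_all4 [Fintype F] (h3 : Fintype.card κ = 3) (h4 : Fintype.card μ = 4)
    (h5 : 5 ≤ Fintype.card F) (hq : 4 ≤ Fintype.card κ ∨ ∃ s : F, s ≠ 0 ∧ s * s ≠ 1)
    (hNP : NoPlane β) {x f : μ → F} (H : Hyp (qf β) β ⊤ x f) {g : GL ι F} (hgL : g ∈ L) :
    Pure τ g := by
  classical
  haveI : Fintype L := Fintype.ofFinite L
  obtain ⟨e₀, e₁, D⟩ := exists_four T.SW T.h2 h4 hNP H
  obtain ⟨-, a1, a2⟩ := mem_perp2.1 D.mem₀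
  obtain ⟨-, b1, b2⟩ := mem_perp2.1 D.mem₁
  have hx0 : x ≠ 0 := hyp_ne_zero T H
  have hκ : 0 < Fintype.card κ := by omega
  have hμ : 0 < Fintype.card μ := by omega
  have hpure : ∀ {Y : GL ι F}, Y ∈ L → Pure τ Y → quadX T Y = quadX T 1 := fun hY hp =>
    quadX_pure T hκ hμ (hL.le hY) hp
  have hstab : ∀ {Y : GL ι F}, Y ∈ L → quadX T Y = quadX T 1 → Pure τ Y := fun hY he =>
    pure_of_quad T hlose hL (by omega) hq h4 hNP H.singE hx0 hY he
  let U : (Fin 2 → F) → GL ι F := fun c => T.liftR (sGL (qf β) β x (c 0 • e₀ + c 1 • e₁))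
  have hxc : ∀ c : Fin 2 → F, β x (c 0 • e₀ + c 1 • e₁) = 0 := fun c => by simp [a1, b1]
  have hUL : ∀ c, U c ∈ L := fun c => hL.right x _ H.singE (hxc c)
  have hUU : ∀ c d, U c * U d = U (c + d) := fun c d => by
    simp only [U]
    rw [← map_mul, sGL_mul T.SW H.singE (hxc c) (hxc d)]
    congr 2
    simp only [Pi.add_apply, add_smul]
    abel
  have hU0 : U 0 = 1 := by
    simp only [U, Pi.zero_apply, zero_smul, add_zero]
    rw [SpTensor.sGL_zero_right T.SW H.singE, map_one]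
  set Φ₁ := quadX T (1 : GL ι F)
  set O : Finset ((ι → F) → (ι → F) → (ι → F) → (ι → F) → F) :=
    (Finset.univ : Finset L).image fun X => quadX T X.1
  have hshift : ∀ Y Z W : GL ι F, quadX T Y = quadX T Z →
      quadX T (Y * W) = quadX T (Z * W) := fun Y Z W h => by
    funext v₁ v₂ v₃ v₄
    rw [quadX_mul, quadX_mul, h]
  have horb : ∀ s ⊆ O.erase Φ₁,
      (∀ X ∈ L, quadX T X ∈ s → ∀ c, quadX T (X * U c) ∈ s) →
      ∀ v₁, T.ctr x v₁ = 0 → ∀ v₂ v₃ v₄, ∑ φ ∈ s, φ v₁ v₂ v₃ v₄ = 0 := by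
    intro s
    induction s using Finset.strongInduction with
    | H s ih =>
      intro hs hcl v₁ hv v₂ v₃ v₄
      rcases s.eq_empty_or_nonempty with rfl | ⟨φ, hφ⟩
      · simp
      obtain ⟨⟨X, hX⟩, -, rfl⟩ := Finset.mem_image.1 (Finset.mem_of_mem_erase (hs hφ))
      have hXp : ¬ Pure τ X := fun h => Finset.ne_of_mem_erase (hs hφ) (hpure hX h)
      have hinj : Function.Injective fun c => quadX T (X * U c) := by
        intro a b hab
        by_contra hne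
        have h1 := hshift _ _ (U (-b)) hab
        rw [mul_assoc, mul_assoc, hUU, hUU, add_neg_cancel, hU0, mul_one] at h1
        have hne' : (a + -b) 0 ≠ 0 ∨ (a + -b) 1 ≠ 0 := by
          by_contra h
          push Not at h
          refine hne (funext fun i => ?_)
          fin_cases i
          · have := h.1
            simp only [Pi.add_apply, Pi.neg_apply] at this
            exact add_neg_eq_zero.1 this
          · have := h.2
            simp only [Pi.add_apply, Pi.neg_apply] at this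
            exact add_neg_eq_zero.1 this
        refine hXp (pure_of_conj4 T hlose hL h3 hq h4 hNP D hne' hX
          (hstab (mul_mem (mul_mem hX (hUL _)) (inv_mem hX)) ?_))
        have h2 := hshift _ _ X⁻¹ h1
        rwa [mul_inv_cancel] at h2
      set T' := (Finset.univ : Finset (Fin 2 → F)).image fun c => quadX T (X * U c) with hT'
      have hTs : T' ⊆ s := fun φ' hf' => by
        obtain ⟨c, -, rfl⟩ := Finset.mem_image.1 hf'
        exact hcl X hX hφ c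
      have hmem : quadX T X ∈ T' :=
        Finset.mem_image.2 ⟨0, Finset.mem_univ _, by rw [hU0, mul_one]⟩
      have hlt : s \ T' ⊂ s := Finset.sdiff_ssubset hTs ⟨_, hmem⟩
      have h1 := ih _ hlt (Finset.sdiff_subset.trans hs) (fun Z hZ hZm c => by
        obtain ⟨hZs, hZT⟩ := Finset.mem_sdiff.1 hZm
        refine Finset.mem_sdiff.2 ⟨hcl Z hZ hZs c, fun hm => hZT ?_⟩
        obtain ⟨a, -, ha⟩ := Finset.mem_image.1 hm
        refine Finset.mem_image.2 ⟨a + -c, Finset.mem_univ _, ?_⟩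
        have h := hshift _ _ (U (-c)) ha
        rwa [mul_assoc, mul_assoc, hUU, hUU, add_neg_cancel, hU0, mul_one] at h) v₁ hv v₂ v₃ v₄
      rw [← Finset.sum_sdiff hTs, h1, zero_add, hT', Finset.sum_image hinj.injOn]
      exact quadX_sum_zero T h5 D X hv v₂ v₃ v₄
  -- right translations permute the images
  have hperm : ∀ h ∈ L, ∀ φ ∈ O, (fun v₁ v₂ v₃ v₄ =>
      φ (h.val *ᵥ v₁) (h.val *ᵥ v₂) (h.val *ᵥ v₃) (h.val *ᵥ v₄)) ∈ O := by
    intro h hh φ hφ
    obtain ⟨⟨Y, hY⟩, -, rfl⟩ := Finset.mem_image.1 hφ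
    exact Finset.mem_image.2 ⟨⟨_, mul_mem hY hh⟩, Finset.mem_univ _, funext fun _ => funext fun _ =>
      funext fun _ => funext fun _ => quadX_mul T _ _ _ _ _ _⟩
  have htrans : ∀ h ∈ L, ∀ v₁ v₂ v₃ v₄,
      ∑ φ ∈ O, φ (h.val *ᵥ v₁) (h.val *ᵥ v₂) (h.val *ᵥ v₃) (h.val *ᵥ v₄) =
        ∑ φ ∈ O, φ v₁ v₂ v₃ v₄ := fun h hh v₁ v₂ v₃ v₄ => by
    refine Finset.sum_bij (fun φ _ => fun v₁ v₂ v₃ v₄ =>
        φ (h.val *ᵥ v₁) (h.val *ᵥ v₂) (h.val *ᵥ v₃) (h.val *ᵥ v₄))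
      (fun φ hφ => hperm h hh φ hφ) (fun φ _ φ' _ e => ?_) (fun φ hφ => ?_) (fun φ _ => rfl)
    · funext v₁ v₂ v₃ v₄
      have := congrFun (congrFun (congrFun (congrFun e ((h⁻¹ : GL ι F).val *ᵥ v₁))
        ((h⁻¹ : GL ι F).val *ᵥ v₂)) ((h⁻¹ : GL ι F).val *ᵥ v₃)) ((h⁻¹ : GL ι F).val *ᵥ v₄)
      simpa only [act_inv] using this
    · exact ⟨_, hperm h⁻¹ (inv_mem hh) φ hφ, funext fun _ => funext fun _ => funext fun _ =>
        funext fun _ => by simp only [inv_act]⟩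
  have h1O : Φ₁ ∈ O := Finset.mem_image.2 ⟨1, Finset.mem_univ _, rfl⟩
  have hrest0 : ∀ v₁, T.ctr x v₁ = 0 → ∀ v₂ v₃ v₄, ∑ φ ∈ O.erase Φ₁, φ v₁ v₂ v₃ v₄ = 0 :=
    horb _ Finset.Subset.rfl fun X hX hm c => by
      refine Finset.mem_erase.2 ⟨fun h => ?_,
        Finset.mem_image.2 ⟨⟨_, mul_mem hX (hUL c)⟩, Finset.mem_univ _, rfl⟩⟩
      have hp := (pureGroup τ).mul_mem (mem_pureGroup.2 (hstab (mul_mem hX (hUL c)) h))
        (mem_pureGroup.2 (show Pure τ (U (-c)) from T.liftR_pure _))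
      rw [mul_assoc, hUU, add_neg_cancel, hU0, mul_one] at hp
      exact Finset.ne_of_mem_erase hm (hpure hX (mem_pureGroup.1 hp))
  have hsing : ∀ u w, qf β w = 0 → ∀ v₂ v₃ v₄,
      ∑ φ ∈ O.erase Φ₁, φ (τ u w) v₂ v₃ v₄ = 0 := by
    intro u w hw v₂ v₃ v₄
    rcases eq_or_ne w 0 with rfl | hw0
    · refine hrest0 _ ?_ v₂ v₃ v₄
      rw [map_zero, map_zero]
    obtain ⟨h, hh, hhx⟩ := trans T.SW T.h2 h4 hNP H.singE hx0 hw hw0
    have hlift := hL.root hh
    have h1 : Φ₁ (τ u w) ((T.liftR h).val *ᵥ ((T.liftR h)⁻¹.val *ᵥ v₂))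
        ((T.liftR h).val *ᵥ ((T.liftR h)⁻¹.val *ᵥ v₃))
        ((T.liftR h).val *ᵥ ((T.liftR h)⁻¹.val *ᵥ v₄)) =
        Φ₁ (τ u x) ((T.liftR h)⁻¹.val *ᵥ v₂) ((T.liftR h)⁻¹.val *ᵥ v₃)
          ((T.liftR h)⁻¹.val *ᵥ v₄) := by
      rw [show Φ₁ = quadX T 1 from rfl, ← hhx, ← T.liftR_act, ← quadX_mul, one_mul,
        hpure hlift (T.liftR_pure h)]
    have h2 := hrest0 (τ u x) (by rw [T.ctr_tau, T.qf_zero.1 H.singE, zero_smul])
      ((T.liftR h)⁻¹.val *ᵥ v₂) ((T.liftR h)⁻¹.val *ᵥ v₃) ((T.liftR h)⁻¹.val *ᵥ v₄)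
    have h3' := htrans (T.liftR h) hlift (τ u x) ((T.liftR h)⁻¹.val *ᵥ v₂)
      ((T.liftR h)⁻¹.val *ᵥ v₃) ((T.liftR h)⁻¹.val *ᵥ v₄)
    rw [T.liftR_act, hhx, ← Finset.add_sum_erase O _ h1O, h1, ← Finset.add_sum_erase O _ h1O,
      h2, add_zero, add_eq_left] at h3'
    simpa only [act_inv] using h3'
  have hzero : ∀ v₁ v₂ v₃ v₄, ∑ φ ∈ O.erase Φ₁, φ v₁ v₂ v₃ v₄ = 0 := by
    intro v₁ v₂ v₃ v₄
    let N : Submodule F (ι → F) :=
      { carrier := {v | ∑ φ ∈ O.erase Φ₁, φ v v₂ v₃ v₄ = 0}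
        add_mem' := fun {v v'} hv hv' => by
          simp only [Set.mem_ofPred_eq] at *
          rw [← add_zero (0 : F)]
          conv_rhs => arg 1; rw [← hv]
          conv_rhs => arg 2; rw [← hv']
          rw [← Finset.sum_add_distrib]
          refine Finset.sum_congr rfl fun φ hφ => ?_
          obtain ⟨Y, -, rfl⟩ := Finset.mem_image.1 (Finset.mem_of_mem_erase hφ)
          simp only [quadX, Matrix.mulVec_add, quad_add_left T]
        zero_mem' := by
          refine Finset.sum_eq_zero fun φ hφ => ?_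
          obtain ⟨Y, -, rfl⟩ := Finset.mem_image.1 (Finset.mem_of_mem_erase hφ)
          have := quad_smul_left T 0 0 (Y.1.val *ᵥ v₂) (Y.1.val *ᵥ v₃) (Y.1.val *ᵥ v₄)
          simpa [quadX] using this
        smul_mem' := fun c v hv => by
          simp only [Set.mem_ofPred_eq] at *
          rw [← mul_zero c, ← hv, Finset.mul_sum]
          refine Finset.sum_congr rfl fun φ hφ => ?_
          obtain ⟨Y, -, rfl⟩ := Finset.mem_image.1 (Finset.mem_of_mem_erase hφ)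
          simp only [quadX, Matrix.mulVec_smul, quad_smul_left T] }
    have htop : (⊤ : Submodule F (ι → F)) ≤ N := T.span ▸ Submodule.span_le.2 (by
      rintro _ ⟨⟨u, w⟩, rfl⟩
      exact (show (⊤ : Submodule F (μ → F)) ≤ N.comap (τ u) from
        (span_sing T.SW T.SW.ndeg_top (by rw [finrank_top, finrank_fintype_fun_eq_card]; omega)).trans
          (Submodule.span_le.2 fun r hr => hsing u r hr.2 v₂ v₃ v₄)) trivial)
    exact htop (Submodule.mem_top : v₁ ∈ ⊤)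
  refine hstab hgL ?_
  funext v₁ v₂ v₃ v₄
  have h1 := htrans g hgL v₁ v₂ v₃ v₄
  rw [← Finset.add_sum_erase O _ h1O, ← Finset.add_sum_erase O _ h1O, hzero, hzero, add_zero,
    add_zero] at h1
  rw [← h1]
  simp only [Φ₁, ← quadX_mul, one_mul]

end Cfsg.Lib.Linear.OOTensor.MinusFour
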