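import Cfsg.Agent.Lib.Linear.OOTensor.MinusFour.Basic
import Cfsg.Agent.Lib.Linear.OOTensor.Adjoint

/-!
# The unipotent radical over a minus type space of dimension four

An element of the group trivial on `U ⊗ x` and on the quotient of its perpendicular space by it is a
Siegel element: otherwise two of the self-adjoint coefficients would not commute.
-/

set_option autoImplicit false
set_option linter.unusedSectionVars false
set_option linter.unusedSimpArgs false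

namespace Cfsg.Lib.Linear.OOTensor.MinusFour

open Module
open scoped Matrix
open Cfsg.Lib.Linear.Orth

variable {ι κ μ : Type} [Fintype ι] [DecidableEq ι] [Fintype κ] [DecidableEq κ] [Fintype μ]
  [DecidableEq μ] {F : Type*} [Field F] {Q : (ι → F) → F} {B : LinearMap.BilinForm F (ι → F)}
  {α : LinearMap.BilinForm F (κ → F)} {β : LinearMap.BilinForm F (μ → F)}
  {τ : (κ → F) →ₗ[F] (μ → F) →ₗ[F] (ι → F)} {L : Subgroup (GL ι F)} (T : Ten Q B α β τ)
  {x f e₀ e₁ : μ → F} (D : Four β x f e₀ e₁)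

/-- A pair of coefficients is realised in the group. -/
def Real2 (L : Subgroup (GL ι F)) (x f e₀ e₁ : μ → F)
    (p : Module.End F (κ → F) × Module.End F (κ → F)) : Prop :=
  ∃ g ∈ L, Unip T x g ∧ T.cof f g e₀ = p.1 ∧ T.cof f g e₁ = p.2

variable (hlose : Losing T L) (hL : Over T L)
include D hlose hL

theorem Real2.add {p p' : Module.End F (κ → F) × Module.End F (κ → F)}
    (h : Real2 T L x f e₀ e₁ p) (h' : Real2 T L x f e₀ e₁ p') :
    Real2 T L x f e₀ e₁ (p + p') := by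
  obtain ⟨g, hg, hu, h0, h1⟩ := h
  obtain ⟨g', hg', hu', h0', h1'⟩ := h'
  refine ⟨g * g', mul_mem hg hg', hu.mul T hu', ?_, ?_⟩
  · rw [Unip.cof_mul T D.hyp hu hu' (mem_perp2.1 D.mem₀).2.1, h0, h0', Prod.fst_add]
  · rw [Unip.cof_mul T D.hyp hu hu' (mem_perp2.1 D.mem₁).2.1, h1, h1', Prod.snd_add]

theorem Real2.neg {p : Module.End F (κ → F) × Module.End F (κ → F)}
    (h : Real2 T L x f e₀ e₁ p) : Real2 T L x f e₀ e₁ (-p) := by
  obtain ⟨g, hg, hu, h0, h1⟩ := h
  refine ⟨g⁻¹, inv_mem hg, hu.inv T, ?_, ?_⟩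
  · rw [Unip.cof_inv T D.hyp hu (mem_perp2.1 D.mem₀).2.1, h0, Prod.fst_neg]
  · rw [Unip.cof_inv T D.hyp hu (mem_perp2.1 D.mem₁).2.1, h1, Prod.snd_neg]

omit hlose in
/-- Conjugation by an element scaling `x`. -/
theorem conj_cof {g : GL ι F} (hg : g ∈ L) (hu : Unip T x g) {m : GL μ F}
    (hm : m ∈ Root (qf β) β ⊤) {c : F} (hc : m.val *ᵥ x = c • x) :
    T.liftR m * g * (T.liftR m)⁻¹ ∈ L ∧ Unip T x (T.liftR m * g * (T.liftR m)⁻¹) ∧
      ∀ w w' : μ → F, β x w' = 0 → m.val *ᵥ w' = w →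
        T.cof f (T.liftR m * g * (T.liftR m)⁻¹) w = c • T.cof f g w' := by
  refine ⟨mul_mem (mul_mem (hL.root hm) hg) (inv_mem (hL.root hm)),
    Unip.conj T D.hyp (hL.le (hL.root hm))
      (fun u => ⟨c • u, by rw [T.liftR_act, hc, map_smul, map_smul, LinearMap.smul_apply]⟩) hu,
    fun w w' hw' e => ?_⟩
  refine Unip.cof_eq T D.hyp fun u => ?_
  have h1 : ((T.liftR m)⁻¹ : GL ι F).val *ᵥ τ u w = τ u w' := by
    rw [← map_inv, T.liftR_act, ← e, inv_act]
  rw [mul_act, mul_act, h1, hu.act T D.hyp hw', Matrix.mulVec_add, T.liftR_act, T.liftR_act, hc, e,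
    map_smul, LinearMap.smul_apply, map_smul, LinearMap.smul_apply]

theorem Real2.square (t : F) {p : Module.End F (κ → F) × Module.End F (κ → F)}
    (h : Real2 T L x f e₀ e₁ p) : Real2 T L x f e₀ e₁ ((t * t) • p) := by
  obtain ⟨g, hg, hu, h0, h1⟩ := h
  have C := D.C
  obtain ⟨-, a1, a2⟩ := mem_perp2.1 D.mem₀
  obtain ⟨-, b1, b2⟩ := mem_perp2.1 D.mem₁
  rcases eq_or_ne t 0 with rfl | ht
  · refine ⟨1, one_mem L, unip_one T x, ?_, ?_⟩ <;>
      · rw [mul_zero, zero_smul]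
        exact Unip.cof_eq T D.hyp fun u => by simp
  set d := t⁻¹ • e₀
  have hqd : qf β d = t⁻¹ ^ 2 * qf β e₀ := C.smul _ _
  have hd0 : qf β d ≠ 0 := by rw [hqd]; exact mul_ne_zero (pow_ne_zero _ (inv_ne_zero ht)) D.ns₀
  obtain ⟨m, hm, hmx, hmw⟩ := exists_rot D (Submodule.smul_mem _ t⁻¹ D.mem₀) hd0
  have hq : qf β e₀ / qf β d = t * t := by
    rw [hqd]; field_simp [D.ns₀]
  rw [hq] at hmx
  obtain ⟨c1, c2, c3⟩ := conj_cof T D hL hg hu hm hmx
  have hw : ∀ w ∈ perp2 β ⊤ x f, m.val *ᵥ w = w := fun w hw => by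
    rw [hmw w hw]
    simp only [d, map_smul, LinearMap.smul_apply, map_sub, smul_eq_mul, hqd, C.self]
    match_scalars <;> field_simp [D.ns₀]
    ring
  refine ⟨_, c1, c2, ?_, ?_⟩
  · rw [c3 e₀ e₀ a1 (hw _ D.mem₀), h0, Prod.smul_fst]
  · rw [c3 e₁ e₁ b1 (hw _ D.mem₁), h1, Prod.smul_snd]

theorem Real2.smul (c : F) {p : Module.End F (κ → F) × Module.End F (κ → F)}
    (h : Real2 T L x f e₀ e₁ p) : Real2 T L x f e₀ e₁ (c • p) := by
  have e : c • p = (((c + 1) / 2) * ((c + 1) / 2)) • p + -((((c - 1) / 2) * ((c - 1) / 2)) • p) := by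
    have ec : ((c + 1) / 2) * ((c + 1) / 2) - ((c - 1) / 2) * ((c - 1) / 2) = c := by
      field_simp [T.h2]
      ring
    conv_lhs => rw [← ec]
    module
  rw [e]
  exact Real2.add T D hlose hL (Real2.square T D hlose hL _ h)
    (Real2.neg T D hlose hL (Real2.square T D hlose hL _ h))

/-- The rotation of the two coefficients. -/
theorem Real2.rot {p : Module.End F (κ → F) × Module.End F (κ → F)}
    (h : Real2 T L x f e₀ e₁ p) :
    Real2 T L x f e₀ e₁ (qf β e₀ • p.2, -(qf β e₁ • p.1)) := by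
  have C := D.C
  obtain ⟨-, a1, a2⟩ := mem_perp2.1 D.mem₀
  obtain ⟨-, b1, b2⟩ := mem_perp2.1 D.mem₁
  have h2 := T.h2
  set q₀ := qf β e₀ with hq₀
  set q₁ := qf β e₁ with hq₁
  have one : ∀ s : F, s * s = 1 → Real2 T L x f e₀ e₁
      ((q₀ / (q₀ + q₁)) • ((-1 + 2 * q₀ / (q₀ + q₁)) • p.1 - (2 * s * q₀ / (q₀ + q₁)) • p.2,
        (2 * s * q₁ / (q₀ + q₁)) • p.1 + (1 - 2 * q₁ / (q₀ + q₁)) • p.2)) := by
    intro s hs
    set d := e₀ + s • e₁ with hd
    have hdW : d ∈ perp2 β ⊤ x f := add_mem D.mem₀ (Submodule.smul_mem _ _ D.mem₁)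
    have hqd : qf β d = q₀ + q₁ := by
      rw [hd, C.add, C.smul, map_smul, D.orth, smul_zero, add_zero, sq, hs, one_mul]
    have hd0 : qf β d ≠ 0 := fun e => by
      have := D.aniso d hdW e
      have h' := congrArg (β e₀) this
      rw [hd, map_add, map_smul, D.orth, smul_zero, add_zero, map_zero, C.self] at h'
      exact mul_ne_zero h2 D.ns₀ h'
    obtain ⟨m, hm, hmx, hmw⟩ := exists_rot D hdW hd0
    obtain ⟨g, hg, hu, h0, h1⟩ := h
    obtain ⟨c1, c2, c3⟩ := conj_cof T D hL hg hu hm hmx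
    have hde₀ : β d e₀ = 2 * q₀ := by
      rw [hd, map_add, map_smul, LinearMap.add_apply, LinearMap.smul_apply, C.symm e₁ e₀, D.orth,
        smul_zero, add_zero, C.self]
    have hde₁ : β d e₁ = s * (2 * q₁) := by
      rw [hd, map_add, map_smul, LinearMap.add_apply, LinearMap.smul_apply, D.orth, C.self,
        zero_add, smul_eq_mul]
    rw [hqd] at hd0
    have key : ∀ a b : F, m.val *ᵥ (a • e₀ + b • e₁) =
        -a • e₀ + b • e₁ - ((q₀ + q₁)⁻¹ * (-a * (2 * q₀) + b * (s * (2 * q₁)))) • d := fun a b => by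
      rw [hmw _ (add_mem (Submodule.smul_mem _ _ D.mem₀) (Submodule.smul_mem _ _ D.mem₁)), hqd]
      have e : a • e₀ + b • e₁ - ((qf β e₀)⁻¹ * β e₀ (a • e₀ + b • e₁)) • e₀ = -a • e₀ + b • e₁ := by
        rw [map_add, map_smul, map_smul, D.orth, C.self, smul_zero, add_zero, smul_eq_mul]
        match_scalars
        · field_simp [D.ns₀]; ring
        · ring
      rw [e, map_add, map_smul, map_smul, hde₀, hde₁, smul_eq_mul, smul_eq_mul]
    have w₀ : m.val *ᵥ ((-1 + 2 * q₀ / (q₀ + q₁)) • e₀ + (-(2 * s * q₀ / (q₀ + q₁))) • e₁) = e₀ := by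
      rw [key, hd]
      match_scalars
      · field_simp
        linear_combination (4 * q₀ * q₁) * hs
      · field_simp
        linear_combination (4 * q₀ * q₁ * s) * hs
    have w₁ : m.val *ᵥ ((2 * s * q₁ / (q₀ + q₁)) • e₀ + (1 - 2 * q₁ / (q₀ + q₁)) • e₁) = e₁ := by
      rw [key, hd]
      match_scalars
      · field_simp
        linear_combination (2 * s * q₁ * q₁ * 0) * hs
      · field_simp
        linear_combination (2 * q₁ * (q₀ + q₁)) * hs
    have hcof : ∀ a b : F, T.cof f g (a • e₀ + b • e₁) = a • p.1 + b • p.2 := fun a b => by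
      rw [map_add, map_smul, map_smul, h0, h1]
    have hx : ∀ a b : F, β x (a • e₀ + b • e₁) = 0 := fun a b => by
      rw [map_add, map_smul, map_smul, a1, b1, smul_zero, smul_zero, add_zero]
    refine ⟨_, c1, c2, ?_, ?_⟩
    · rw [c3 e₀ _ (hx _ _) w₀, hcof, hqd, ← hq₀]
      simp [sub_eq_add_neg]
      module
    · rw [c3 e₁ _ (hx _ _) w₁, hcof, hqd, ← hq₀]
      simp
  have hq : q₀ + q₁ ≠ 0 := fun e => by
    have h0 := D.aniso (e₀ + e₁) (add_mem D.mem₀ D.mem₁) (by rw [C.add, D.orth, add_zero]; exact e)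
    have h' := congrArg (β e₀) h0
    rw [map_add, D.orth, add_zero, map_zero, C.self] at h'
    exact mul_ne_zero h2 D.ns₀ h'
  have hsum := Real2.smul T D hlose hL (-((q₀ + q₁) ^ 2 / (4 * q₀)))
    (Real2.add T D hlose hL (one 1 (one_mul 1)) (Real2.neg T D hlose hL (one (-1) (by ring))))
  have hn₀ : q₀ ≠ 0 := D.ns₀
  have h4 : (4 : F) ≠ 0 := by
    rw [show (4 : F) = 2 * 2 by norm_num]; exact mul_ne_zero h2 h2
  convert hsum using 1
  refine Prod.ext ?_ ?_
  · simp only [Prod.smul_fst, Prod.fst_add, Prod.fst_neg]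
    match_scalars <;> field_simp <;> ring
  · simp only [Prod.smul_snd, Prod.snd_add, Prod.snd_neg]
    match_scalars <;> field_simp <;> ring

omit hlose in
/-- The image of a vector of `U ⊗ f`. -/
theorem act_f {g : GL ι F} (hg : g ∈ L) (hu : Unip T x g)
    (hsa : ∀ r ∈ perp2 β ⊤ x f, ∀ a b, α (T.cof f g r a) b = α a (T.cof f g r b)) (u : κ → F) :
    g.val *ᵥ τ u f = τ u f + τ (T.ctr f (g.val *ᵥ τ u f)) x -
      ((β e₀ e₀)⁻¹ • τ (T.cof f g e₀ u) e₀ + (β e₁ e₁)⁻¹ • τ (T.cof f g e₁ u) e₁) := by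
  have C := D.C
  have H := D.hyp
  obtain ⟨-, a1, a2⟩ := mem_perp2.1 D.mem₀
  obtain ⟨-, b1, b2⟩ := mem_perp2.1 D.mem₁
  refine T.ext3 H ?_ ?_ fun r hr => ?_
  · simp [Unip.ctr_x T H (hL.le hg) hu, T.ctr_tau, H.pair' T.SW, T.qf_zero.1 H.singE,
      T.sβ e₀ x, T.sβ e₁ x, a1, b1]
  · simp [T.ctr_tau, H.pair, T.qf_zero.1 H.singF, T.sβ e₀ f, T.sβ e₁ f, a2, b2]
  · obtain ⟨-, r1, r2⟩ := mem_perp2.1 hr
    refine T.α_ext fun c => ?_
    rw [Unip.ctr_perp T H (hL.le hg) hu hr]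
    conv_lhs => rw [D.split r hr, map_add, map_smul, map_smul]
    simp [T.ctr_tau, r1, r2, hsa e₀ D.mem₀, hsa e₁ D.mem₁, smul_smul, div_eq_inv_mul]

theorem sym_cof {g : GL ι F} (hg : g ∈ L) (hu : Unip T x g) :
    ∀ r ∈ perp2 β ⊤ x f, ∀ a b, α (T.cof f g r a) b = α a (T.cof f g r b) := fun r hr a b => by
  have hr1 := (mem_perp2.1 hr).2.1
  exact Unip.self_adjoint T D.hyp (hL.le hg) hu (Unip.comm T D.hyp hlose hL hg
    (hL.right x r D.hyp.singE hr1) hu (unip_siegel T D.hyp hr1)) hr a b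

/-- The coefficients of two realised pairs satisfy a commutation rule. -/
theorem Real2.comm {p p' : Module.End F (κ → F) × Module.End F (κ → F)}
    (h : Real2 T L x f e₀ e₁ p) (h' : Real2 T L x f e₀ e₁ p') :
    (β e₀ e₀)⁻¹ • (p.1 * p'.1 - p'.1 * p.1) + (β e₁ e₁)⁻¹ • (p.2 * p'.2 - p'.2 * p.2) = 0 := by
  obtain ⟨g, hg, hu, e0, e1⟩ := h
  obtain ⟨g', hg', hu', k0, k1⟩ := h'
  rw [← k0, ← k1, ← e0, ← e1]
  have H := D.hyp
  obtain ⟨-, a1, a2⟩ := mem_perp2.1 D.mem₀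
  obtain ⟨-, b1, b2⟩ := mem_perp2.1 D.mem₁
  refine LinearMap.ext fun u => ?_
  have h1 := congrArg (fun k : GL ι F => T.ctr f (k.val *ᵥ τ u f))
    (Unip.comm T H hlose hL hg hg' hu hu')
  simp only [mul_act] at h1
  rw [act_f T D hL hg' hu' (sym_cof T D hlose hL hg' hu') u,
    act_f T D hL hg hu (sym_cof T D hlose hL hg hu) u] at h1
  simp only [Matrix.mulVec_sub, Matrix.mulVec_add, Matrix.mulVec_smul, hu.1, hu'.1,
    hu.act T H a1, hu.act T H b1, hu'.act T H a1, hu'.act T H b1, map_add, map_sub, map_smul,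
    T.ctr_tau, H.pair, T.sβ e₀ f, T.sβ e₁ f, a2, b2, zero_smul, one_smul, zero_add] at h1
  simp only [LinearMap.add_apply, LinearMap.smul_apply, LinearMap.sub_apply, Module.End.mul_apply,
    LinearMap.zero_apply]
  linear_combination (norm := module) -h1

/-- The unipotent radical consists of Siegel elements. -/
theorem unip_eq4 [Finite F] (hm : 3 ≤ Fintype.card κ)
    (hq : 4 ≤ Fintype.card κ ∨ ∃ s : F, s ≠ 0 ∧ s * s ≠ 1) {g : GL ι F} (hg : g ∈ L)
    (hu : Unip T x g) : ∃ a ∈ perp2 β ⊤ x f, g = T.liftR (sGL (qf β) β x a) := by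
  have C := D.C
  have H := D.hyp
  have CU := T.SU
  have h2 := T.h2
  obtain ⟨-, a1, a2⟩ := mem_perp2.1 D.mem₀
  obtain ⟨-, b1, b2⟩ := mem_perp2.1 D.mem₁
  have ho' : β e₁ e₀ = 0 := by rw [C.symm]; exact D.orth
  have n₀ : β e₀ e₀ ≠ 0 := by rw [C.self]; exact mul_ne_zero h2 D.ns₀
  have n₁ : β e₁ e₁ ≠ 0 := by rw [C.self]; exact mul_ne_zero h2 D.ns₁
  have hzero : Real2 T L x f e₀ e₁ 0 :=
    ⟨1, one_mem _, unip_one T x, Unip.cof_eq T H fun u => by simp,
      Unip.cof_eq T H fun u => by simp⟩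
  let 𝒦 : Submodule F (Module.End F (κ → F) × Module.End F (κ → F)) :=
    { carrier := {p | Real2 T L x f e₀ e₁ p}
      add_mem' := fun h h' => Real2.add T D hlose hL h h'
      zero_mem' := hzero
      smul_mem' := fun c _ h => Real2.smul T D hlose hL c h }
  let I₁ : Module.End F (κ → F) := 1
  let S₀ : Submodule F (Module.End F (κ → F) × Module.End F (κ → F)) :=
    (Submodule.span F {I₁}).prod (Submodule.span F {I₁})
  have hscal : ∀ c d : F, (c • I₁, d • I₁) ∈ 𝒦 := fun c d => by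
    obtain ⟨a, ha⟩ : ∃ a, a = -((c / β e₀ e₀) • e₀ + (d / β e₁ e₁) • e₁) := ⟨_, rfl⟩
    have hxa : β x a = 0 := by simp [ha, a1, b1]
    refine ⟨_, hL.right x a H.singE hxa, unip_siegel T H hxa, ?_, ?_⟩
    · rw [cof_siegel T H hxa a1]
      simp [ha, ho', n₀, I₁]
    · rw [cof_siegel T H hxa b1]
      simp [ha, D.orth, n₁, I₁]
  have hcj : ∀ u a, qf α u = 0 → α u a = 0 → ∀ p ∈ 𝒦,
      LinearMap.prodMap (cj (sGL (qf α) α u a)) (cj (sGL (qf α) α u a)) p ∈ 𝒦 := by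
    intro u a hqu hua p hp
    obtain ⟨h, hh, hhu, e0, e1⟩ := hp
    have hpL := hL.left u a hqu hua
    set k := T.swap.liftR (sGL (qf α) α u a)
    have key : ∀ w, β x w = 0 →
        T.cof f (k * h * k⁻¹) w = cj (sGL (qf α) α u a) (T.cof f h w) := fun w hw =>
      Unip.cof_eq T H fun c => by
        have hk : (k⁻¹ : GL ι F).val *ᵥ τ c w =
            τ (((sGL (qf α) α u a)⁻¹ : GL κ F).val *ᵥ c) w := by
          rw [← map_inv, T.liftL_act]
        rw [mul_act, mul_act, hk, hhu.act T H hw, Matrix.mulVec_add, T.liftL_act, T.liftL_act,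
          act_inv, cj_apply]
    refine ⟨k * h * k⁻¹, mul_mem (mul_mem hpL hh) (inv_mem hpL),
      Unip.conj T H (hL.le hpL) (fun c => ⟨_, T.liftL_act _ c x⟩) hhu, ?_, ?_⟩
    · rw [key e₀ a1, e0]; rfl
    · rw [key e₁ b1, e1]; rfl
  suffices hle : ∀ p ∈ 𝒦, p ∈ S₀ by
    have h0 := hle (T.cof f g e₀, T.cof f g e₁) ⟨g, hg, hu, rfl, rfl⟩
    have hall : ∀ w ∈ perp2 β ⊤ x f, T.cof f g w ∈ Submodule.span F {I₁} := fun w hw => by
      rw [D.split w hw, map_add, map_smul, map_smul]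
      exact add_mem (Submodule.smul_mem _ _ h0.1) (Submodule.smul_mem _ _ h0.2)
    obtain ⟨a, ha, he⟩ := exists_siegel_cof T H (by omega) hall
    exact ⟨a, ha, Unip.ext T H hlose hL hg (hL.right x a H.singE (mem_perp2.1 ha).2.1) hu
      (unip_siegel T H (mem_perp2.1 ha).2.1) he⟩
  by_contra hle
  push Not at hle
  obtain ⟨ν, ν', G⟩ := exists_hyp' CU CU.ndeg_top
    (by rwa [finrank_top, finrank_fintype_fun_eq_card])
  obtain ⟨p, hp, hp0, hfix⟩ := exists_fixed_mod (I := LinearMap.ker (α ν))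
    (fun a => LinearMap.prodMap (cj (sGL (qf α) α ν a) - 1) (cj (sGL (qf α) α ν a) - 1))
    (fun a => by
      obtain ⟨n, hn⟩ := cj_nilpotent CU G.singE a.2
      refine ⟨n, ?_⟩
      show (LinearMap.prodMapRingHom F _ _ (cj (sGL (qf α) α ν (a : κ → F)) - 1,
        cj (sGL (qf α) α ν (a : κ → F)) - 1)) ^ n = 0
      rw [← map_pow, Prod.pow_mk, hn]
      exact map_zero _)
    (fun a b => by
      have h : Commute (cj (sGL (qf α) α ν (a : κ → F))) (cj (sGL (qf α) α ν (b : κ → F))) := by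
        show cj _ * cj _ = cj _ * cj _
        rw [← cj_mul, ← cj_mul, sGL_mul CU G.singE a.2 b.2, sGL_mul CU G.singE b.2 a.2, add_comm]
      have h' : ∀ X, (cj (sGL (qf α) α ν (a : κ → F)) - 1)
            ((cj (sGL (qf α) α ν (b : κ → F)) - 1) X) =
          (cj (sGL (qf α) α ν (b : κ → F)) - 1) ((cj (sGL (qf α) α ν (a : κ → F)) - 1) X) := by
        intro X
        have hX := LinearMap.congr_fun h.eq X
        simp only [Module.End.mul_apply] at hX
        simp only [LinearMap.sub_apply, Module.End.one_apply, map_sub, hX]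
        abel
      exact LinearMap.ext fun q => Prod.ext (h' q.1) (h' q.2))
    S₀ 𝒦
    (fun a p hp => by
      have step : ∀ X ∈ Submodule.span F {I₁},
          (cj (sGL (qf α) α ν (a : κ → F)) - 1) X = 0 := fun X hX => by
        obtain ⟨t, rfl⟩ := Submodule.mem_span_singleton.1 hX
        exact LinearMap.ext fun y => by simp [cj_apply, Matrix.mulVec_smul, act_inv, I₁]
      exact ⟨by
        show (cj (sGL (qf α) α ν (a : κ → F)) - 1) p.1 ∈ _
        rw [step _ hp.1]; exact Submodule.zero_mem _, by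
        show (cj (sGL (qf α) α ν (a : κ → F)) - 1) p.2 ∈ _
        rw [step _ hp.2]; exact Submodule.zero_mem _⟩)
    (fun a p hp => by
      have h1 := 𝒦.sub_mem (hcj ν a G.singE a.2 p hp) hp
      exact h1)
    hle
  have hsa : ∀ w ∈ perp2 β ⊤ x f, ∀ (h : GL ι F), h ∈ L → Unip T x h →
      ∀ a b, α (T.cof f h w a) b = α a (T.cof f h w b) :=
    fun w hw h hh hhu => sym_cof T D hlose hL hh hhu w hw
  obtain ⟨h, hh, hhu, e0, e1⟩ := id hp
  obtain ⟨c, s, hX⟩ := fixed_sym CU h2 G hm hq (X := p.1)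
    (by rw [← e0]; exact hsa e₀ D.mem₀ h hh hhu) (fun a ha => (hfix ⟨a, ha⟩).1)
  obtain ⟨c', t, hY⟩ := fixed_sym CU h2 G hm hq (X := p.2)
    (by rw [← e1]; exact hsa e₁ D.mem₁ h hh hhu) (fun a ha => (hfix ⟨a, ha⟩).2)
  set R : Module.End F (κ → F) := (α ν).smulRight ν with hR
  have hst : qf β (t • e₀ + s • e₁) ≠ 0 := fun e => by
    have h0 := D.aniso _ (add_mem (Submodule.smul_mem _ t D.mem₀)
      (Submodule.smul_mem _ s D.mem₁)) e
    have ht := congrArg (β e₀) h0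
    have hs := congrArg (β e₁) h0
    simp [D.orth, ho', n₀, n₁] at ht hs
    refine hp0 ⟨?_, ?_⟩
    · rw [hX, hs, zero_smul, add_zero]
      exact Submodule.smul_mem _ _ (Submodule.mem_span_singleton_self _)
    · rw [hY, ht, zero_smul, add_zero]
      exact Submodule.smul_mem _ _ (Submodule.mem_span_singleton_self _)
  have hRK : ((R, 0) : Module.End F (κ → F) × Module.End F (κ → F)) ∈ 𝒦 := by
    have k1 : (s • R, t • R) ∈ 𝒦 := by
      convert 𝒦.sub_mem hp (hscal c c') using 1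
      refine Prod.ext ?_ ?_
      · simp [hX, I₁]
      · simp [hY, I₁]
    have k2 : (qf β e₀ • (t • R), -(qf β e₁ • (s • R))) ∈ 𝒦 := Real2.rot T D hlose hL k1
    refine (𝒦.smul_mem_iff hst).1 ?_
    convert 𝒦.add_mem (𝒦.smul_mem (qf β e₁ * s) k1) (𝒦.smul_mem t k2) using 1
    have eq : qf β (t • e₀ + s • e₁) = qf β e₁ * s * s + t * qf β e₀ * t := by
      rw [C.smul_add, D.orth]; ring
    rw [eq]
    refine Prod.ext ?_ ?_
    · simp only [Prod.smul_fst, Prod.fst_add]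
      module
    · simp only [Prod.smul_snd, Prod.snd_add]
      module
  have hWn := G.ndeg CU CU.ndeg_top
  obtain ⟨v₀, hv₀, hQv₀⟩ := exists_nonsing CU hWn (perp_ne_bot CU G hm)
  obtain ⟨-, v1, v2⟩ := mem_perp2.1 hv₀
  set k := sGL (qf α) α ν' v₀
  set ν₁ := k.val *ᵥ ν with hν₁
  have hk := sGL_mem CU G.singF v2
  have hR1 : cj k R = (α ν₁).smulRight ν₁ := LinearMap.ext fun y => by
    simp only [cj_apply, hR, LinearMap.smulRight_apply, Matrix.mulVec_smul, hν₁]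
    rw [CU.B_act_left hk]
  have hR1K : (((α ν₁).smulRight ν₁, 0) : Module.End F (κ → F) × Module.End F (κ → F)) ∈ 𝒦 := by
    convert hcj ν' v₀ G.singF v2 _ hRK using 1
    exact Prod.ext hR1.symm (map_zero (cj (sGL (qf α) α ν' v₀))).symm
  have h3 := Real2.comm T D hlose hL hRK hR1K
  simp only [mul_zero, sub_zero, smul_zero, add_zero, smul_eq_zero, inv_eq_zero, n₀, false_or,
    sub_eq_zero] at h3
  have e3 : ν₁ = ν + v₀ - qf α v₀ • ν' := by
    rw [hν₁, sGL_act CU G.singF v2, G.pair' CU, CU.symm v₀ ν, v1]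
    simp
  have h5 := congrArg (α ν) (LinearMap.congr_fun h3 ν')
  simp [hR, Module.End.mul_apply, e3, G.pair, v1, CU.symm v₀ ν', v2, CU.self_zero G.singE,
    CU.self_zero G.singF, CU.symm ν' ν, CU.symm v₀ ν] at h5
  exact hQv₀ h5

end Cfsg.Lib.Linear.OOTensor.MinusFour
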